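import Cfsg.Agent.H299.FactsCongr

/-!
# More facts on `Sp₆(2)`

`Facts2 L` : an involution centralized by an elementary abelian group of order 9; commuting elements of order 5 and 3.
-/

set_option autoImplicit false

namespace Cfsg.Agent.H299

open Subgroup Cfsg Cfsg.Agent.ClassicalGeometry.SympBasic
open scoped Matrix

/-- More facts on `L ≅ Sp₆(2)`. -/
structure Facts2 (L : Type*) [Group L] : Prop where
  /-- an elementary abelian subgroup of order 9 centralizing an involution -/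
  e9 : ∃ t : L, t ≠ 1 ∧ t * t = 1 ∧ ∃ A : Subgroup L, IsElementaryAbelian 3 A ∧ Nat.card A = 9 ∧ ∀ a ∈ A, a * t = t * a
  /-- an element of order 15 -/
  fifteen : ∃ z y : L, orderOf z = 5 ∧ orderOf y = 3 ∧ z * y = y * z

theorem Facts2.congr {L M : Type*} [Group L] [Group M] [Finite M] (e : L ≃* M) (h : Facts2 M) : Facts2 L := by
  refine ⟨?_, ?_⟩
  · obtain ⟨t, ht1, ht2, A, hA, hc, hAt⟩ := h.e9
    refine ⟨e.symm t, fun h => ht1 ?_, ?_, A.map e.symm.toMonoidHom, RedLocal.isElem_map _ hA,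
      by rw [Subgroup.card_map_of_injective e.symm.injective, hc], ?_⟩
    · rw [← e.apply_symm_apply t, h, map_one]
    · rw [← map_mul, ht2, map_one]
    · rintro _ ⟨a, ha, rfl⟩
      show e.symm a * e.symm t = e.symm t * e.symm a
      rw [← map_mul, ← map_mul, hAt a ha]
  · obtain ⟨z, y, hz, hy, hc⟩ := h.fifteen
    exact ⟨e.symm z, e.symm y, by rw [MulEquiv.orderOf_eq, hz], by rw [MulEquiv.orderOf_eq, hy],
      by rw [← map_mul, ← map_mul, hc]⟩

namespace SpSix

local instance : Fact (Nat.Prime 2) := ⟨Nat.prime_two⟩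
local instance : Fact (Nat.Prime 3) := ⟨Nat.prime_three⟩
local instance : Fact (Nat.Prime 5) := ⟨Nat.prime_five⟩

local notation "K2" => ZMod 2
local notation "S6" => Matrix.symplecticGroup (Fin 3) (ZMod 2)

theorem exists_e9 : ∃ t : S6, t ≠ 1 ∧ t * t = 1 ∧ ∃ A : Subgroup S6, IsElementaryAbelian 3 A ∧ Nat.card A = 9 ∧
    ∀ a ∈ A, a * t = t * a := by
  set x : Matrix.SpecialLinearGroup (Fin 2) K2 := Sigma.Symp.three K2 with hx
  have hx3 : x ^ 3 = 1 := Sigma.Symp.three_pow
  have hx1 : x ≠ 1 := by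
    intro h
    apply Sigma.Symp.three_comm (F := K2)
    rw [← hx, h]
    exact Commute.one_left _
  have hox : orderOf x = 3 := orderOf_eq_prime hx3 hx1
  set u : Matrix.SpecialLinearGroup (Fin 2) K2 := Sigma.Symp.upper K2 (Multiplicative.ofAdd 1) with hu
  have hu2 : u * u = 1 := by
    rw [hu, ← map_mul, ← ofAdd_add]
    have : (1 : K2) + 1 = 0 := by decide
    rw [this, ofAdd_zero, map_one]
  have hu1 : u ≠ 1 := by
    intro h
    have : Multiplicative.ofAdd (1 : K2) = 1 := Sigma.Symp.upper_injective (by rw [← hu, h, map_one])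
    exact absurd this (by decide)
  let f : (Fin 2 → ↥(zpowers x)) →* (Fin 3 → Matrix.SpecialLinearGroup (Fin 2) K2) :=
    { toFun := fun a => ![1, (a 0 : Matrix.SpecialLinearGroup (Fin 2) K2), (a 1 : Matrix.SpecialLinearGroup (Fin 2) K2)]
      map_one' := by
        funext i
        fin_cases i <;> rfl
      map_mul' := fun a b => by
        funext i
        fin_cases i
        · exact (one_mul 1).symm
        · rfl
        · rfl }
  have hf : Function.Injective f := by
    intro a b h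
    funext i
    apply Subtype.ext
    fin_cases i
    · exact congrFun h 1
    · exact congrFun h 2
  let g : (Fin 2 → ↥(zpowers x)) →* S6 := (Sigma.Symp.emb 3 K2).comp f
  have hg : Function.Injective g := (Sigma.Symp.emb_injective 3).comp hf
  have hz : ∀ a : ↥(zpowers x), a ^ 3 = 1 := by
    intro a
    obtain ⟨k, hk⟩ := mem_zpowers_iff.1 a.2
    apply Subtype.ext
    rw [Subgroup.coe_pow, ← hk, ← zpow_natCast, ← zpow_mul, mul_comm, zpow_mul, zpow_natCast, hx3, one_zpow]
    rfl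
  refine ⟨Sigma.Symp.emb 3 K2 ![u, 1, 1], ?_, ?_, g.range, ⟨⟨⟨?_⟩⟩, ?_⟩, ?_, ?_⟩
  · intro h
    have h1 := Sigma.Symp.emb_injective 3 (h.trans (map_one (Sigma.Symp.emb 3 K2)).symm)
    exact hu1 (congrFun h1 0)
  · rw [← map_mul]
    have : (![u, 1, 1] * ![u, 1, 1] : Fin 3 → Matrix.SpecialLinearGroup (Fin 2) K2) = 1 := by
      funext i
      fin_cases i
      · exact hu2
      · exact one_mul 1
      · exact one_mul 1
    rw [this, map_one]
  · rintro ⟨_, a, rfl⟩ ⟨_, b, rfl⟩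
    apply Subtype.ext
    show g a * g b = g b * g a
    rw [← map_mul, ← map_mul]
    congr 1
    funext i
    exact (inferInstance : IsMulCommutative ↥(zpowers x)).is_comm.comm (a i) (b i)
  · rintro _ ⟨a, rfl⟩
    rw [← map_pow]
    have : a ^ 3 = 1 := by
      funext i
      exact hz (a i)
    rw [this, map_one]
  · rw [← Nat.card_congr (MonoidHom.ofInjective hg).toEquiv, Nat.card_fun, Nat.card_zpowers, hox]
    simp
  · rintro _ ⟨a, rfl⟩
    show Sigma.Symp.emb 3 K2 (f a) * _ = _ * Sigma.Symp.emb 3 K2 (f a)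
    rw [← map_mul, ← map_mul]
    congr 1
    funext i
    fin_cases i
    · show 1 * u = u * 1
      rw [one_mul, mul_one]
    · show (a 0 : Matrix.SpecialLinearGroup (Fin 2) K2) * 1 = 1 * (a 0 : Matrix.SpecialLinearGroup (Fin 2) K2)
      rw [one_mul, mul_one]
    · show (a 1 : Matrix.SpecialLinearGroup (Fin 2) K2) * 1 = 1 * (a 1 : Matrix.SpecialLinearGroup (Fin 2) K2)
      rw [one_mul, mul_one]

/-- two transvections -/
theorem exists_fifteen : ∃ z y : S6, orderOf z = 5 ∧ orderOf y = 3 ∧ z * y = y * z := by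
  have hfin : Finite S6 :=
    Finite.of_injective (fun g => (g : Matrix (Fin 3 ⊕ Fin 3) (Fin 3 ⊕ Fin 3) K2)) Subtype.val_injective
  have hfc : Finite (centralizer ({t0} : Set S6)) := inferInstance
  obtain ⟨z, hz⟩ := exists_prime_orderOf_dvd_card' 5 five_dvd
  have hzv : (z.1 : Matrix (Fin 3 ⊕ Fin 3) (Fin 3 ⊕ Fin 3) K2) *ᵥ v0 = v0 :=
    comm_t0.1 (mem_centralizer_singleton_iff.1 z.2)
  -- the set of `f` with `(f, v₀) = 1`
  let X := {f : Fin 3 ⊕ Fin 3 → K2 // sympForm 3 K2 f v0 = 1}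
  let act : MulAction ↥(zpowers z) X :=
    { smul := fun g x => ⟨((g.1.1 : S6) : Matrix (Fin 3 ⊕ Fin 3) (Fin 3 ⊕ Fin 3) K2) *ᵥ x.1, by
        have h1 : ((g.1.1 : S6) : Matrix (Fin 3 ⊕ Fin 3) (Fin 3 ⊕ Fin 3) K2) *ᵥ v0 = v0 :=
          comm_t0.1 (mem_centralizer_singleton_iff.1 g.1.2)
        have h2 := sympForm_mulVec (g.1.1 : S6).2 x.1 v0
        rw [h1, x.2] at h2
        exact h2⟩
      one_smul := fun x => Subtype.ext (Matrix.one_mulVec x.1)
      mul_smul := fun g h x => Subtype.ext (coe_mul_mulVec g.1.1 h.1.1 x.1) }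
  have hP : IsPGroup 5 ↥(zpowers z) := by
    refine IsPGroup.of_card (n := 1) ?_
    rw [Nat.card_zpowers, hz, pow_one]
  have hX : Nat.card X = 32 := by
    have h1 : Nat.card X = Fintype.card {f : Fin 3 ⊕ Fin 3 → K2 // f (Sum.inr 0) = 1} := by
      rw [Nat.card_eq_fintype_card (α := {f : Fin 3 ⊕ Fin 3 → K2 // f (Sum.inr 0) = 1}).symm]
      refine Nat.card_congr (Equiv.subtypeEquivRight fun f => ?_)
      rw [v0, sympForm_single_inl_right]
    rw [h1]
    rfl
  have h5 : ¬ 5 ∣ Nat.card X := by rw [hX]; norm_num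
  have hfX : Finite X := Subtype.finite
  obtain ⟨f, hf⟩ := hP.nonempty_fixed_point_of_prime_not_dvd_card X h5
  have hzf : ((z.1 : S6) : Matrix (Fin 3 ⊕ Fin 3) (Fin 3 ⊕ Fin 3) K2) *ᵥ f.1 = f.1 :=
    congrArg Subtype.val (hf ⟨z, mem_zpowers z⟩)
  have hfv := f.2
  have hvf : sympForm 3 K2 v0 f.1 = 1 := by
    rw [sympForm_swap, hfv]; decide
  set s : S6 := ClassicalGeometry.SympBasic.transv f.1 1 with hs
  have s_mul : ∀ x, (s : Matrix (Fin 3 ⊕ Fin 3) (Fin 3 ⊕ Fin 3) K2) *ᵥ x = x + sympForm 3 K2 x f.1 • f.1 := by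
    intro x
    rw [hs, coe_transv, sympTransvection_mulVec, one_mul]
  have hzs : (z.1 : S6) * s = s * z.1 := by
    apply rep_eq
    intro x
    rw [coe_mul_mulVec, coe_mul_mulVec, s_mul, s_mul, Matrix.mulVec_add, Matrix.mulVec_smul, hzf]
    congr 2
    nth_rewrite 2 [← hzf]
    rw [sympForm_mulVec (z.1 : S6).2]
  have hzt : (z.1 : S6) * t0 = t0 * z.1 := mem_centralizer_singleton_iff.1 z.2
  have hs2 : s * s = 1 := by
    apply Subtype.ext
    rw [Submonoid.coe_mul, hs, coe_transv, sympTransvection_mul, CharTwo.add_self_eq_zero, sympTransvection_zero]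
    rfl
  have h1 : (t0 : Matrix (Fin 3 ⊕ Fin 3) (Fin 3 ⊕ Fin 3) K2) *ᵥ f.1 = f.1 + v0 := by rw [t0_mul, hfv, one_smul]
  have h2 : (s : Matrix (Fin 3 ⊕ Fin 3) (Fin 3 ⊕ Fin 3) K2) *ᵥ v0 = f.1 + v0 := by
    rw [s_mul, hvf, one_smul, add_comm]
  set w : S6 := ClassicalGeometry.SympBasic.transv (f.1 + v0) 1 with hw
  have h3 : t0 * s = w * t0 := by
    apply Subtype.ext
    rw [Submonoid.coe_mul, Submonoid.coe_mul, hs, hw, coe_transv, coe_transv, mul_sympTransvection t0.2, h1]
  have h4 : s * t0 = w * s := by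
    apply Subtype.ext
    rw [Submonoid.coe_mul, Submonoid.coe_mul]
    have e : (t0 : Matrix (Fin 3 ⊕ Fin 3) (Fin 3 ⊕ Fin 3) K2) = sympTransvection 3 v0 1 := rfl
    rw [e, mul_sympTransvection s.2, h2, hw, coe_transv]
    rfl
  have h5 : t0 * s * t0 = w := by rw [h3, mul_assoc, t0_sq, mul_one]
  have h6 : s * t0 * s = w := by rw [h4, mul_assoc, hs2, mul_one]
  have h7 : (t0 * s) ^ 3 = 1 := by
    calc (t0 * s) ^ 3 = (t0 * s * t0) * (s * t0 * s) := by simp only [pow_succ, pow_zero, one_mul, mul_assoc]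
      _ = (t0 * s * t0) * (t0 * s * t0) := by rw [h6, ← h5]
      _ = t0 * s * (t0 * t0) * s * t0 := by simp only [mul_assoc]
      _ = 1 := by rw [t0_sq, mul_one, mul_assoc t0 s s, hs2, mul_one, t0_sq]
  refine ⟨z.1, t0 * s, ?_, ?_, ?_⟩
  · rw [← hz]
    exact orderOf_injective (centralizer ({t0} : Set S6)).subtype (Subgroup.subtype_injective _) z
  · refine orderOf_eq_prime ?_ ?_
    · exact h7
    · intro h
      have h8 : t0 = s := by
        calc t0 = t0 * (s * s) := by rw [hs2, mul_one]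
          _ = s := by rw [← mul_assoc, h, one_mul]
      have h9 := t0_mul v0
      rw [h8, h2, sympForm_self, zero_smul, add_zero] at h9
      have h10 : sympForm 3 K2 (f.1 + v0) v0 = sympForm 3 K2 v0 v0 := by rw [h9]
      rw [sympForm_add_left, hfv, sympForm_self, add_zero] at h10
      exact one_ne_zero h10
  · rw [← mul_assoc, hzt, mul_assoc, hzs, mul_assoc]

theorem facts2_S6 {L : Type*} [Group L] (e : L ≃* S6) : Facts2 L :=
  have : Finite S6 :=
    Finite.of_injective (fun g => (g : Matrix (Fin 3 ⊕ Fin 3) (Fin 3 ⊕ Fin 3) K2)) Subtype.val_injective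
  Facts2.congr e ⟨exists_e9, exists_fifteen⟩

/-- **`Sp₆(2)`.** -/
theorem facts2 {L : Type*} [Group L] {F : Type*} [Field F] [Fintype F] (hF : Fintype.card F = 2) (e : L ≃* PSp 3 F) :
    Facts2 L :=
  facts2_S6 ((e.trans (LieClassical.FieldTransfer.pspCongr 3 (ZMod.ringEquivOfPrime F Nat.prime_two hF).symm)).trans
    toSp)

end SpSix

end Cfsg.Agent.H299
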