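import Cfsg.Agent.H299.Red
import Cfsg.Agent.H299.SpSixMore

/-!
# The situation in the simple group `S`

* `Act S φ L` : `S` is a finite simple group of characteristic 2 type, `φ` an automorphism of order 3 of `S`, the fixed
  points of `φ` are `L` times a group of odd order, `L ≅ Sp₆(2)`; the 2-local 3-rank of `S` is at most 3;
* `In S b L` : in addition `φ` is conjugation by the element `b` of order 3.
-/

set_option autoImplicit false
set_option linter.unusedSectionVars false

namespace Cfsg.Agent.H299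

open Subgroup Cfsg

universe u v

/-- `φ` is an automorphism of order 3 of the simple group `S` with fixed points `L × (odd)`. -/
structure Act (S : Type u) [Group S] (φ : MulAut S) (L : Subgroup S) : Prop where
  fin : Finite S
  simple : IsSimpleGroup S
  char2 : IsCharacteristicTwoType S
  rank : TwoLocalPRankLE 3 3 S
  facts : Facts ↥L
  facts2 : Facts2 ↥L
  ne_one : φ ≠ 1
  cube : φ ^ 3 = 1
  fix : ∀ l ∈ L, φ l = l
  split : ∀ s, φ s = s → ∃ l ∈ L, ∀ x ∈ L, (l⁻¹ * s) * x = x * (l⁻¹ * s)
  odd : ∀ s, φ s = s → (∀ x ∈ L, s * x = x * s) → Odd (orderOf s)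
  three : ∀ A : Subgroup S, (∀ a ∈ A, ∀ x ∈ L, a * x = x * a) → IsElementaryAbelian 3 A → Nat.card A ≤ 3

/-- the inner case -/
structure In (S : Type u) [Group S] (b : S) (L : Subgroup S) : Prop extends Act S (MulAut.conj b) L where
  ob : orderOf b = 3
  e81 : ∃ B : Subgroup S, IsElementaryAbelian 3 B ∧ 81 ≤ Nat.card B ∧ b ∈ B
  ntl : ¬ TwoLocalPRankLE 3 2 S

theorem twoLocal_of_injective {G : Type*} {H : Type*} [Group G] [Group H] {p k : ℕ} (f : H →* G)
    (hf : Function.Injective f) (h : TwoLocalPRankLE p k G) : TwoLocalPRankLE p k H := by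
  rintro N ⟨T, hT, hT1, rfl⟩ A hA hAp
  have h1 : T.map f ≠ ⊥ := fun h0 => hT1 ((map_eq_bot_iff_of_injective T hf).mp h0)
  have h2 : (normalizer (T : Set H)).map f ≤ normalizer ((T.map f : Subgroup G) : Set G) := by
    rintro _ ⟨a, ha, rfl⟩
    rw [mem_normalizer_iff]
    intro y
    constructor
    · rintro ⟨x, hx, rfl⟩
      exact ⟨a * x * a⁻¹, (mem_normalizer_iff.1 ha x).1 hx, by simp⟩
    · rintro ⟨x, hx, hxy⟩
      have h2 : f (a⁻¹ * x * a) = y := by
        rw [map_mul, map_mul, map_inv, hxy]
        group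
      refine ⟨a⁻¹ * x * a, ?_, h2⟩
      have h4 := (mem_normalizer_iff.1 (inv_mem ha) x).1 hx
      rwa [inv_inv] at h4
  let g : ↥(normalizer (T : Set H)) →* ↥(normalizer ((T.map f : Subgroup G) : Set G)) :=
    (f.comp (normalizer (T : Set H)).subtype).codRestrict _ fun x => h2 ⟨x.1, x.2, rfl⟩
  have hg : Function.Injective g := by
    intro x y hxy
    have h3 : f x.1 = f y.1 := congrArg (fun w : ↥(normalizer ((T.map f : Subgroup G) : Set G)) => (w : G)) hxy
    exact Subtype.ext (hf h3)
  have h4 := h (normalizer ((T.map f : Subgroup G) : Set G)) ⟨T.map f, hT.map f, h1, rfl⟩ (A.map g) ?_ ?_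
  · rwa [Subgroup.card_map_of_injective hg] at h4
  · refine ⟨⟨?_⟩⟩
    rintro ⟨_, a, ha, rfl⟩ ⟨_, b, hb, rfl⟩
    apply Subtype.ext
    show g a * g b = g b * g a
    rw [← map_mul, ← map_mul]
    congr 1
    exact congrArg Subtype.val (hA.is_comm.comm ⟨a, ha⟩ ⟨b, hb⟩)
  · rintro _ ⟨a, ha, rfl⟩
    rw [← map_pow, hAp a ha, map_one]

namespace Act

variable {S : Type u} [Group S] {φ : MulAut S} {L : Subgroup S}

theorem dvd_card (h : Act S φ L) : 1451520 ∣ Nat.card S := by
  have := h.fin
  rw [← h.facts.card]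
  exact Subgroup.card_subgroup_dvd_card L

theorem center_trivial (h : Act S φ L) {z : S} (hz : z ∈ L) (hc : ∀ x ∈ L, z * x = x * z) : z = 1 := by
  have hs := h.facts.simple
  have hZ : Subgroup.center L = ⊥ := by
    refine (Subgroup.center L).normal_of_characteristic.eq_bot_or_eq_top.resolve_right fun h' => h.facts.na ⟨⟨?_⟩⟩
    intro a b
    have : a ∈ Subgroup.center L := by rw [h']; exact Subgroup.mem_top a
    exact ((Subgroup.mem_center_iff.1 this) b).symm
  have h1 : (⟨z, hz⟩ : L) ∈ Subgroup.center L := by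
    rw [Subgroup.mem_center_iff]
    intro g
    exact Subtype.ext (hc g.1 g.2).symm
  rw [hZ, Subgroup.mem_bot] at h1
  exact congrArg Subtype.val h1

/-- **tightness**: the involution `t` of `L`; the last condition: `|C_L(t)|` is prime to 7 -/
theorem ct7 (h : Act S φ L) : ∃ t ∈ L, t ≠ 1 ∧ t * t = 1 ∧ 5 ∣ Nat.card (centralizer ({t} : Set S)) ∧
    (∀ z : S, z * z = 1 → φ z = z → (∀ c ∈ L, c * t = t * c → z * c = c * z) → z = 1 ∨ z = t) ∧
    ∀ c ∈ L, c * t = t * c → ¬ 7 ∣ orderOf c := by
  have := h.fin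
  have hfL := h.facts.fin
  obtain ⟨t, ht1, ht2, h5, hz, h7⟩ := h.facts.transv
  refine ⟨t, t.2, fun h => ht1 (Subtype.ext h), congrArg Subtype.val ht2, ?_, ?_, ?_⟩
  rotate_left 2
  · intro c hc hct h8
    apply h7
    have h9 : (⟨c, hc⟩ : L) ∈ centralizer ({t} : Set L) := mem_centralizer_singleton_iff.2 (Subtype.ext hct)
    have h10 := orderOf_dvd_natCard (⟨⟨c, hc⟩, h9⟩ : centralizer ({t} : Set L))
    rw [Subgroup.orderOf_mk, Subgroup.orderOf_mk] at h10
    exact h8.trans h10
  · refine h5.trans ?_
    refine Subgroup.card_dvd_of_injective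
      (((L.subtype.comp (centralizer ({t} : Set L)).subtype).codRestrict (centralizer ({(t : S)} : Set S)) ?_)) ?_
    · intro x
      rw [mem_centralizer_singleton_iff]
      exact congrArg Subtype.val (mem_centralizer_singleton_iff.1 x.2)
    · intro x y hxy
      have h1 : (x.1.1 : S) = y.1.1 := congrArg (fun w : ↥(centralizer ({(t : S)} : Set S)) => (w : S)) hxy
      exact Subtype.ext (Subtype.ext h1)
  · intro z hz1 hz2 hz3
    obtain ⟨l, hl, hlz⟩ := h.split z hz2
    have hk : l⁻¹ * z = 1 := by
      set k := l⁻¹ * z with hk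
      have hzk : z = l * k := by rw [hk]; group
      have h1 : k * k = l⁻¹ * l⁻¹ := by
        have h2 : l * k * (l * k) = 1 := by rw [← hzk]; exact hz1
        have h3 : l * k * (l * k) = l * l * (k * k) := by
          calc l * k * (l * k) = l * (k * l) * k := by group
            _ = l * (l * k) * k := by rw [hlz l hl]
            _ = l * l * (k * k) := by group
        rw [h3] at h2
        calc k * k = l⁻¹ * l⁻¹ * (l * l * (k * k)) := by group
          _ = l⁻¹ * l⁻¹ := by rw [h2, mul_one]
      have h2 : k * k = 1 := by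
        refine h.center_trivial (by rw [h1]; exact mul_mem (inv_mem hl) (inv_mem hl)) fun x hx => ?_
        calc k * k * x = k * (k * x) := by group
          _ = k * (x * k) := by rw [hlz x hx]
          _ = (k * x) * k := by group
          _ = x * (k * k) := by rw [hlz x hx]; group
      have h3 : Odd (orderOf k) := by
        refine h.odd k ?_ hlz
        rw [hk, map_mul, map_inv, h.fix l hl, hz2]
      have h4 : orderOf k ∣ 2 := orderOf_dvd_of_pow_eq_one (by rw [sq]; exact h2)
      have h5 : orderOf k = 1 := by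
        rcases (Nat.dvd_prime Nat.prime_two).1 h4 with h6 | h6
        · exact h6
        · rw [h6] at h3
          exact absurd h3 (by decide)
      exact orderOf_eq_one_iff.1 h5
    have hzl : z = l := by rw [inv_mul_eq_one] at hk; exact hk.symm
    have h6 := hz ⟨l, hl⟩ (Subtype.ext (by
      have h7 := hz3 t t.2 rfl
      rw [hzl] at h7
      exact h7)) (fun c hc => Subtype.ext (by
      have h7 := hz3 c c.2 (congrArg Subtype.val hc)
      rw [hzl] at h7
      exact h7))
    rcases h6 with h6 | h6
    · left; rw [hzl]; exact congrArg Subtype.val h6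
    · right; rw [hzl]; exact congrArg Subtype.val h6

/-- **tightness**: the involution `t` of `L` -/
theorem ct (h : Act S φ L) : ∃ t ∈ L, t ≠ 1 ∧ t * t = 1 ∧ 5 ∣ Nat.card (centralizer ({t} : Set S)) ∧
    ∀ z : S, z * z = 1 → φ z = z → (∀ c ∈ L, c * t = t * c → z * c = c * z) → z = 1 ∨ z = t := by
  obtain ⟨t, h1, h2, h3, h4, h5, -⟩ := h.ct7
  exact ⟨t, h1, h2, h3, h4, h5⟩

/-- transport -/
theorem congr {X : Type v} [Group X] (h : Act S φ L) (e : S ≃* X) :
    Act X (MulAut.congr e φ) (L.map e.toMonoidHom) := by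
  have hfin := h.fin
  have hs := h.simple
  have hfX : Finite X := Finite.of_equiv _ e.toEquiv
  have hap : ∀ x, (MulAut.congr e φ) x = e (φ (e.symm x)) := fun x => rfl
  have eL : ↥(L.map e.toMonoidHom) ≃* ↥L := (L.equivMapOfInjective e.toMonoidHom e.injective).symm
  have hfL : Finite L := h.facts.fin
  refine ⟨hfX, ?_, ?_, ?_, h.facts.congr eL, h.facts2.congr eL, ?_, ?_, ?_, ?_, ?_, ?_⟩
  · have : Nontrivial X := e.symm.toEquiv.nontrivial
    exact IsSimpleGroup.isSimpleGroup_of_surjective e.toMonoidHom e.surjective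
  · exact OddHalf.Small.Generic.isCharacteristicTwoType_congr e h.char2
  · exact twoLocal_of_injective e.symm.toMonoidHom e.symm.injective h.rank
  · intro h1
    apply h.ne_one
    have : MulAut.congr e φ = MulAut.congr e 1 := by rw [h1, map_one]
    exact (MulAut.congr e).injective this
  · rw [← map_pow, h.cube, map_one]
  · rintro _ ⟨l, hl, rfl⟩
    show e (φ (e.symm (e l))) = e l
    rw [e.symm_apply_apply, h.fix l hl]
  · intro s hs
    rw [hap] at hs
    obtain ⟨l, hl, hlx⟩ := h.split (e.symm s) (by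
      apply e.injective
      rw [e.apply_symm_apply, hs])
    refine ⟨e l, ⟨l, hl, rfl⟩, ?_⟩
    rintro _ ⟨x, hx, rfl⟩
    have h1 := congrArg e (hlx x hx)
    simp only [map_mul, map_inv, e.apply_symm_apply] at h1
    exact h1
  · intro s hs hx
    rw [hap] at hs
    rw [← MulEquiv.orderOf_eq e.symm s]
    refine h.odd _ ?_ ?_
    · apply e.injective
      rw [e.apply_symm_apply, hs]
    · intro x hx'
      apply e.injective
      rw [map_mul, map_mul, e.apply_symm_apply]
      exact hx (e x) ⟨x, hx', rfl⟩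
  · intro A hA hAe
    have h1 := h.three (A.map e.symm.toMonoidHom) (by
      rintro _ ⟨a, ha, rfl⟩ x hx
      apply e.injective
      show e (e.symm a * x) = e (x * e.symm a)
      rw [map_mul, map_mul, e.apply_symm_apply]
      exact hA a ha (e x) ⟨x, hx, rfl⟩) (RedLocal.isElem_map _ hAe)
    rwa [Subgroup.card_map_of_injective e.symm.injective] at h1

/-- if `φ` is inner -/
theorem inn (h : Act S φ L) {b : S} (hb : φ = MulAut.conj b) : In S b L := by
  subst hb
  have hfin := h.fin
  have hs := h.simple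
  have : Fact (Nat.Prime 3) := ⟨Nat.prime_three⟩
  have hZ : Subgroup.center S = ⊥ := by
    refine (Subgroup.center S).normal_of_characteristic.eq_bot_or_eq_top.resolve_right fun h' => ?_
    refine h.facts.na ⟨⟨fun x y => Subtype.ext ?_⟩⟩
    have : (x : S) ∈ Subgroup.center S := by rw [h']; exact mem_top _
    exact ((mem_center_iff.1 this) y).symm
  have hb1 : b ≠ 1 := fun h1 => h.ne_one (by rw [h1, map_one])
  have hb3 : b ^ 3 = 1 := by
    have h1 : b ^ 3 ∈ Subgroup.center S := by
      rw [mem_center_iff]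
      intro g
      have h2 := h.cube
      rw [← map_pow] at h2
      have h3 := congrArg (fun f : MulAut S => f g) h2
      simp only [MulAut.conj_apply, MulAut.one_apply] at h3
      exact (mul_inv_eq_iff_eq_mul.1 h3).symm
    rwa [hZ, mem_bot] at h1
  have hob : orderOf b = 3 := orderOf_eq_prime hb3 hb1
  have hbc : ∀ l ∈ L, l * b = b * l := by
    intro l hl
    have h1 := h.fix l hl
    rw [MulAut.conj_apply] at h1
    exact (mul_inv_eq_iff_eq_mul.1 h1).symm
  have hbL : b ∉ L := by
    intro hbL
    exact hb1 (h.center_trivial hbL fun x hx => (hbc x hx).symm)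
  -- the product
  have key : ∀ A : Subgroup L, IsElementaryAbelian 3 A →
      ∃ B : Subgroup S, IsElementaryAbelian 3 B ∧ Nat.card B = 3 * Nat.card A ∧ b ∈ B ∧
        ∀ x ∈ B, ∀ t : L, (∀ a ∈ A, a * t = t * a) → x * t = t * x := by
    intro A hA
    let f : ↥A × ↥(zpowers b) →* S := MonoidHom.noncommCoprod (L.subtype.comp A.subtype) (zpowers b).subtype
      (fun a z => by
        obtain ⟨_, k, rfl⟩ := z
        exact (show Commute (a.1 : S) b from hbc a.1 a.1.2).zpow_right k)
    have hf1 : ∀ a z, f (a, z) = (a.1 : S) * z.1 := fun a z => rfl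
    have hf : Function.Injective f := by
      rw [injective_iff_map_eq_one]
      rintro ⟨a, z⟩ h1
      rw [hf1] at h1
      have h2 : (z : S) ∈ L := by
        have : (z : S) = (a.1 : S)⁻¹ := by rw [eq_inv_iff_mul_eq_one, ← h1]; exact (by
          obtain ⟨_, k, rfl⟩ := z
          exact ((show Commute (a.1 : S) b from hbc a.1 a.1.2).zpow_right k).symm)
        rw [this]
        exact inv_mem a.1.2
      have h3 : (z : S) = 1 := by
        refine h.center_trivial h2 fun x hx => ?_
        obtain ⟨_, k, rfl⟩ := z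
        exact ((show Commute x b from hbc x hx).zpow_right k).symm
      rw [h3, mul_one] at h1
      refine Prod.ext ?_ (Subtype.ext h3)
      exact Subtype.ext (Subtype.ext h1)
    refine ⟨f.range, ⟨⟨⟨?_⟩⟩, ?_⟩, ?_, ⟨(1, ⟨b, mem_zpowers b⟩), ?_⟩, ?_⟩
    · rintro ⟨_, ⟨a, z⟩, rfl⟩ ⟨_, ⟨a', z'⟩, rfl⟩
      apply Subtype.ext
      show f (a, z) * f (a', z') = f (a', z') * f (a, z)
      rw [← map_mul, ← map_mul]
      congr 1
      exact Prod.ext (hA.1.is_comm.comm a a')
        ((inferInstance : IsMulCommutative ↥(zpowers b)).is_comm.comm z z')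
    · rintro _ ⟨⟨a, z⟩, rfl⟩
      rw [← map_pow]
      have h1 : (a, z) ^ 3 = 1 := by
        refine Prod.ext (Subtype.ext (hA.2 a a.2)) (Subtype.ext ?_)
        obtain ⟨_, k, rfl⟩ := z
        show (b ^ k) ^ 3 = 1
        rw [← zpow_natCast, ← zpow_mul, mul_comm, zpow_mul, zpow_natCast, hb3, one_zpow]
      rw [h1, map_one]
    · rw [← Nat.card_congr (MonoidHom.ofInjective hf).toEquiv, Nat.card_prod, Nat.card_zpowers, hob, mul_comm]
    · rw [hf1]
      show ((1 : ↥A).1 : S) * b = b
      exact one_mul b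
    · rintro _ ⟨⟨a, z⟩, rfl⟩ t ht
      rw [hf1]
      have h1 : (a.1 : S) * t = t * a.1 := congrArg Subtype.val (ht a.1 a.2)
      have h2 : (z : S) * t = t * z := by
        obtain ⟨_, k, rfl⟩ := z
        exact ((show Commute (t : S) b from hbc t t.2).zpow_right k).symm
      rw [mul_assoc, h2, ← mul_assoc, h1, mul_assoc]
  refine { h with ob := hob, e81 := ?_, ntl := ?_ }
  · obtain ⟨A, hA, hc⟩ := h.facts.e27
    obtain ⟨B, h1, h2, h3, -⟩ := key A hA
    exact ⟨B, h1, by omega, h3⟩
  · intro hT
    obtain ⟨t, ht1, ht2, A, hA, hc, hAt⟩ := h.facts2.e9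
    obtain ⟨B, h1, h2, -, h4⟩ := key A hA
    have ht1' : (t : S) ≠ 1 := fun h => ht1 (Subtype.ext h)
    have ht2' : (t : S) * t = 1 := congrArg Subtype.val ht2
    have hot : orderOf (t : S) = 2 := orderOf_eq_prime (by rw [sq]; exact ht2') ht1'
    have hBt : B ≤ normalizer ((zpowers (t : S) : Subgroup S) : Set S) := by
      have h3 : B ≤ centralizer ({(t : S)} : Set S) := by
        intro x hx
        rw [mem_centralizer_singleton_iff]
        exact h4 x hx t hAt
      refine h3.trans ?_
      intro x hx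
      have hx' := mem_centralizer_singleton_iff.1 hx
      rw [mem_normalizer_iff]
      intro y
      have hz : ∀ y ∈ zpowers (t : S), x * y = y * x := by
        rintro _ ⟨k, rfl⟩
        exact (show Commute x (t : S) from hx').zpow_right k
      constructor
      · intro hy
        rw [hz y hy, mul_inv_cancel_right]
        exact hy
      · intro hy
        have h4 := hz _ hy
        have h5 : y = x * y * x⁻¹ := by
          have h6 : x * (x * y * x⁻¹) * x⁻¹ = x * y * x⁻¹ := by rw [h4]; group
          have h7 : x * y * x⁻¹ = y := by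
            calc x * y * x⁻¹ = x⁻¹ * (x * (x * y * x⁻¹) * x⁻¹) * x := by group
              _ = x⁻¹ * (x * y * x⁻¹) * x := by rw [h6]
              _ = y := by group
          exact h7.symm
        rw [h5]
        exact hy
    have hne : zpowers (t : S) ≠ ⊥ := by
      rw [Ne, zpowers_eq_bot]
      exact ht1'
    have hP : IsPGroup 2 (zpowers (t : S)) := IsPGroup.of_card (n := 1) (by rw [Nat.card_zpowers, hot, pow_one])
    have h3 := hT _ ⟨zpowers (t : S), hP, hne, rfl⟩ (B.subgroupOf _) ⟨⟨fun x y => Subtype.ext (Subtype.ext (by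
      have h5 : (x.1.1 : S) * y.1.1 = y.1.1 * x.1.1 :=
        congrArg Subtype.val (h1.1.is_comm.comm ⟨x.1.1, x.2⟩ ⟨y.1.1, y.2⟩)
      exact h5))⟩⟩ (fun x hx => Subtype.ext (h1.2 _ hx))
    rw [Nat.card_congr (subgroupOfEquivOfLe hBt).toEquiv] at h3
    norm_num at h3
    omega

end Act

/-- **from `G` to `S`** -/
theorem Act.of {G : Type u} [Group G] [Finite G] {b : G} {L S : Subgroup G} [S.Normal] (h : Red.Hyp G b L)
    (r : Red.Res G b L S) (h2 : Facts2 ↥L) : Act ↥S (MulAut.conjNormal b) (L.subgroupOf S) := by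
  have hLS := r.le
  have eL : ↥(L.subgroupOf S) ≃* ↥L := subgroupOfEquivOfLe hLS
  have hfL : Finite L := inferInstance
  have hbc : ∀ l ∈ L, l * b = b * l := fun l hl => mem_centralizer_singleton_iff.1 (h.le hl)
  refine ⟨inferInstance, r.simple, r.char2, ?_, h.facts.congr eL, h2.congr eL, ?_, ?_, ?_, ?_, ?_, ?_⟩
  · exact twoLocal_of_injective S.subtype S.subtype_injective (Red.rank h)
  · intro h1
    have h3 : b ∈ centralizer (S : Set G) := by
      rw [mem_centralizer_iff]
      intro s hs
      have h4 := congrArg (fun f : MulAut ↥S => ((f ⟨s, hs⟩ : ↥S) : G)) h1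
      simp only [MulAut.conjNormal_apply, MulAut.one_apply] at h4
      exact (mul_inv_eq_iff_eq_mul.1 h4).symm
    rw [r.cent, mem_bot] at h3
    have h4 := h.hb
    rw [h3, orderOf_one] at h4
    norm_num at h4
  · rw [← map_pow, ← h.hb, pow_orderOf_eq_one, map_one]
  · intro l hl
    apply Subtype.ext
    rw [MulAut.conjNormal_apply, ← hbc l hl, mul_inv_cancel_right]
  · intro s hs
    have hsb : (s : G) * b = b * s := by
      have h3 := congrArg (fun x : ↥S => (x : G)) hs
      simp only [MulAut.conjNormal_apply] at h3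
      exact (mul_inv_eq_iff_eq_mul.1 h3).symm
    have hn := h.nrm
    obtain ⟨π, hπ, hker⟩ := RedLocal.exists_pi (L.subgroupOf (centralizer ({b} : Set G))) (Red.facts' h)
    set s' : ↥(centralizer ({b} : Set G)) := ⟨s, mem_centralizer_singleton_iff.2 hsb⟩ with hs'
    have h3 : ((π s' : ↥(centralizer ({b} : Set G)))⁻¹ * s') ∈ π.ker := by
      rw [MonoidHom.mem_ker, map_mul, map_inv, hπ, inv_mul_cancel]
    rw [hker, mem_centralizer_iff] at h3
    have h4 : ((π s' : ↥(centralizer ({b} : Set G))) : G) ∈ L := (π s').2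
    refine ⟨⟨_, hLS h4⟩, h4, fun x hx => ?_⟩
    have h5 := h3 ⟨(x : G), h.le hx⟩ hx
    apply Subtype.ext
    exact (congrArg (fun y : ↥(centralizer ({b} : Set G)) => (y : G)) h5).symm
  · intro s hs hsL
    have hsb : (s : G) * b = b * s := by
      have h3 := congrArg (fun x : ↥S => (x : G)) hs
      simp only [MulAut.conjNormal_apply] at h3
      exact (mul_inv_eq_iff_eq_mul.1 h3).symm
    set s' : ↥(centralizer ({b} : Set G)) := ⟨s, mem_centralizer_singleton_iff.2 hsb⟩ with hs'
    have h3 : s' ∈ centralizer ((L.subgroupOf (centralizer ({b} : Set G)) :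
        Subgroup ↥(centralizer ({b} : Set G))) : Set ↥(centralizer ({b} : Set G))) := by
      rw [mem_centralizer_iff]
      intro l hl
      have h4 := hsL ⟨l.1, hLS hl⟩ hl
      exact Subtype.ext (congrArg Subtype.val h4).symm
    have h4 := Red.odd_cent h
    have h5 : orderOf s = orderOf s' := by
      rw [← Subgroup.orderOf_coe s, ← Subgroup.orderOf_coe s']
    rw [h5, ← Subgroup.orderOf_mk _ h3]
    exact Odd.of_dvd_nat h4 (orderOf_dvd_natCard _)
  · intro A hA hAe
    have h3 := Red.card_le_three h (A := A.map S.subtype) (by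
      rintro _ ⟨a, ha, rfl⟩
      rw [mem_centralizer_iff]
      intro l hl
      have := hA a ha ⟨l, hLS hl⟩ hl
      exact (congrArg Subtype.val this).symm) (RedLocal.isElem_map _ hAe)
    rwa [Subgroup.card_map_of_injective S.subtype_injective] at h3

end Cfsg.Agent.H299
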