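import Mathlib

/-!
# Abelian quotients of a group without normal subgroups of index 3
-/

set_option autoImplicit false

namespace Cfsg.Agent.H299.AbQ

open Subgroup

/-- a finite commutative group of order divisible by 3 has a subgroup of index 3 -/
theorem exists_index {R : Type*} [Group R] [Finite R] (hR : ∀ x y : R, x * y = y * x) (h3 : 3 ∣ Nat.card R) :
    ∃ K : Subgroup R, K.index = 3 := by
  have hp : Fact (Nat.Prime 3) := ⟨Nat.prime_three⟩
  let _ : CommGroup R := { (inferInstance : Group R) with mul_comm := hR }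
  obtain ⟨x, hx⟩ := exists_prime_orderOf_dvd_card' 3 h3
  set P : Subgroup R := (powMonoidHom 3 : R →* R).range with hP
  have hne : P ≠ ⊤ := by
    intro h
    have h1 : Function.Surjective (powMonoidHom 3 : R →* R) := MonoidHom.range_eq_top.1 h
    have h2 := Finite.injective_iff_surjective.2 h1
    have h3 : x = 1 := h2 (by
      show x ^ 3 = 1 ^ 3
      rw [one_pow, ← hx, pow_orderOf_eq_one])
    rw [h3, orderOf_one] at hx
    norm_num at hx
  have h4 : IsPGroup 3 (R ⧸ P) := by
    intro q
    obtain ⟨y, rfl⟩ := QuotientGroup.mk'_surjective P q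
    refine ⟨1, ?_⟩
    rw [pow_one, ← map_pow]
    exact (QuotientGroup.eq_one_iff _).2 ⟨y, rfl⟩
  obtain ⟨n, hn⟩ := IsPGroup.iff_card.1 h4
  have hn0 : n ≠ 0 := by
    rintro rfl
    rw [pow_zero] at hn
    apply hne
    rw [← Subgroup.index_eq_one]
    exact hn
  obtain ⟨m, rfl⟩ := Nat.exists_eq_succ_of_ne_zero hn0
  obtain ⟨K, hK⟩ := Sylow.exists_subgroup_card_pow_prime 3 (n := m) (by rw [hn]; exact pow_dvd_pow 3 (Nat.le_succ m))
  refine ⟨K.comap (QuotientGroup.mk' P), ?_⟩
  rw [Subgroup.index_comap_of_surjective _ (QuotientGroup.mk'_surjective P)]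
  have h5 := Subgroup.card_mul_index K
  rw [hK, hn, Nat.pow_succ] at h5
  exact Nat.eq_of_mul_eq_mul_left (by positivity) h5

/-- elements of order 3 are in the kernel of a homomorphism to a commutative group -/
theorem map_eq_one {G : Type*} [Group G] [Finite G] (hN : ∀ N : Subgroup G, N.Normal → N.index = 3 → False)
    {A : Type*} [Group A] (hA : ∀ x y : A, x * y = y * x) (φ : G →* A) {b : G} (hb : b ^ 3 = 1) : φ b = 1 := by
  by_contra hne
  have hR : ∀ x y : φ.range, x * y = y * x := fun x y => Subtype.ext (hA x y)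
  have h3 : 3 ∣ Nat.card φ.range := by
    have h1 : orderOf (φ.rangeRestrict b) = 3 := by
      refine orderOf_eq_prime (by rw [← map_pow, hb, map_one]) fun h => hne ?_
      exact congrArg Subtype.val h
    rw [← h1]
    exact orderOf_dvd_natCard _
  have hfin : Finite φ.range := Finite.of_surjective _ φ.rangeRestrict_surjective
  obtain ⟨K, hK⟩ := exists_index hR h3
  refine hN (K.comap φ.rangeRestrict) ?_ ?_
  · refine ⟨fun n hn g => ?_⟩
    show φ.rangeRestrict (g * n * g⁻¹) ∈ K
    rw [map_mul, map_mul, hR (φ.rangeRestrict g), mul_assoc, ← map_mul, mul_inv_cancel, map_one, mul_one]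
    exact hn
  · rw [Subgroup.index_comap_of_surjective _ φ.rangeRestrict_surjective, hK]

/-- an abelian quotient of the automorphism group -/
def AbK (X : Type*) [Group X] (N : Subgroup (MulAut X)) : Prop :=
  ∃ (A : Type) (_ : Group A) (e : MulAut X →* A), (∀ x y : A, x * y = y * x) ∧ e.ker ≤ N

theorem AbK.mem {G : Type*} [Group G] [Finite G] (hN : ∀ N : Subgroup G, N.Normal → N.index = 3 → False)
    {X : Type*} [Group X] {N : Subgroup (MulAut X)} (h : AbK X N) (φ : G →* MulAut X) {b : G} (hb : b ^ 3 = 1) :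
    φ b ∈ N := by
  obtain ⟨A, _, e, hA, hk⟩ := h
  exact hk (map_eq_one hN hA (e.comp φ) hb)

end Cfsg.Agent.H299.AbQ
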