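import Mathlib

/-!
# Small facts in characteristic two
-/

set_option autoImplicit false

namespace Cfsg.Agent.H299.CenAux

theorem exists_sqrt {F : Type*} [Field F] [Finite F] [CharP F 2] (c : F) : ∃ d : F, d * d = c := by
  obtain ⟨d, hd⟩ := FiniteField.isSquare_of_char_two (ringChar.eq F 2) c
  exact ⟨d, hd.symm⟩

theorem eq_one_of_sq {F : Type*} [Field F] [CharP F 2] {x : F} (h : x * x = 1) : x = 1 := by
  have h3 : (x - 1) * (x - 1) = 0 := by
    have h0 : (2 : F) = 0 := CharTwo.two_eq_zero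
    linear_combination h + (1 - x) * h0
  exact sub_eq_zero.1 (mul_self_eq_zero.1 h3)

theorem two_eq_zero {F : Type*} [Field F] [CharP F 2] {ι : Type*} [Fintype ι] [DecidableEq ι] :
    (2 : Matrix ι ι F) = 0 := by
  have h0 : (2 : F) = 0 := CharTwo.two_eq_zero
  have : (2 : Matrix ι ι F) = (2 : F) • 1 := by
    rw [two_smul, one_add_one_eq_two]
  rw [this, h0, zero_smul]

theorem sq_zero {F : Type*} [Field F] [CharP F 2] {ι : Type*} [Fintype ι] [DecidableEq ι] {g : Matrix ι ι F}
    (hg : g * g = 1) : (g - 1) * (g - 1) = 0 := by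
  have : (g - 1) * (g - 1) = g * g + 1 - 2 * g := by noncomm_ring
  rw [this, hg, two_eq_zero, zero_mul, sub_zero, one_add_one_eq_two, two_eq_zero]

theorem sq_one {F : Type*} [Field F] [CharP F 2] {ι : Type*} [Fintype ι] [DecidableEq ι] {g : Matrix ι ι F}
    (hg : g * g = 1) (c : F) : (1 + c • (g - 1)) * (1 + c • (g - 1)) = 1 := by
  have : (1 + c • (g - 1)) * (1 + c • (g - 1)) = 1 + 2 * (c • (g - 1)) + (c * c) • ((g - 1) * (g - 1)) := by
    rw [← smul_mul_smul_comm]
    generalize c • (g - 1) = Y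
    noncomm_ring
  rw [this, sq_zero hg, two_eq_zero, zero_mul, smul_zero, add_zero, add_zero]

theorem det_eq_one {F : Type*} [Field F] [CharP F 2] {ι : Type*} [Fintype ι] [DecidableEq ι] {M : Matrix ι ι F}
    (h : M * M = 1) : M.det = 1 := by
  have h1 := congrArg Matrix.det h
  rw [Matrix.det_mul, Matrix.det_one] at h1
  exact eq_one_of_sq h1

theorem card_eq_two {F : Type*} [Field F] [Fintype F] (h : ∀ c : F, c = 0 ∨ c = 1) : Fintype.card F = 2 := by
  rw [← Nat.card_eq_fintype_card, Nat.card_eq_two_iff]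
  refine ⟨0, 1, zero_ne_one, ?_⟩
  ext c
  simp only [Set.mem_insert_iff, Set.mem_singleton_iff, Set.mem_univ, iff_true]
  exact h c

end Cfsg.Agent.H299.CenAux
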