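import Cfsg.Agent.H299.Cons

/-!
# The centre trick in a projective linear group

`Proj π v φ A Ai` : `π : Γ → X` is surjective, `v : Γ → Mat(F)` a faithful representation, the kernel of `π` consists of the
scalars, and `φ` is induced by conjugation with the matrix `A`.
-/

set_option autoImplicit false
set_option linter.unusedSectionVars false

namespace Cfsg.Agent.H299

open Subgroup Cfsg

structure Proj {Γ X : Type*} [Group Γ] [Group X] {ι F : Type*} [Fintype ι] [DecidableEq ι] [Field F]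
    (π : Γ →* X) (v : Γ →* Matrix ι ι F) (φ : MulAut X) (A Ai : Matrix ι ι F) : Prop where
  surj : Function.Surjective π
  inj : Function.Injective v
  ker : ∀ g, π g = 1 ↔ ∃ c : F, v g = c • 1
  inv : A * Ai = 1
  inv' : Ai * A = 1
  conj : ∀ g : Γ, ∃ g' : Γ, v g' = A * v g * Ai ∧ π g' = φ (π g)
  root : ∀ (g : Γ) (c : F), v g = c • 1 → ∃ (s : Γ) (d : F), v s = d • 1 ∧ d * d = c

namespace Proj

variable {Γ : Type*} {X : Type*} [Group Γ] [Group X] {ι F : Type*} [Fintype ι] [DecidableEq ι] [Field F]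
  {π : Γ →* X} {v : Γ →* Matrix ι ι F} {φ : MulAut X} {A Ai : Matrix ι ι F}

theorem scalar_one [CharP F 2] {M : Matrix ι ι F} {c : F} (h : M = c • 1) (h2 : M * M = 1) : M = 1 := by
  subst h
  have h1 : (c * c) • (1 : Matrix ι ι F) = 1 := by
    have h0 := smul_mul_smul_comm c (1 : Matrix ι ι F) c 1
    rw [one_mul] at h0
    rw [← h0, h2]
  have h3 : ((c - 1) * (c - 1)) • (1 : Matrix ι ι F) = 0 := by
    have e : (c - 1) * (c - 1) = c * c - 1 := by
      have h0 : (2 : F) = 0 := CharTwo.two_eq_zero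
      linear_combination (1 - c) * h0
    rw [e, sub_smul, h1, one_smul, sub_self]
  rcases smul_eq_zero.1 h3 with h4 | h4
  · have h5 : c - 1 = 0 := mul_self_eq_zero.1 h4
    rw [sub_eq_zero.1 h5, one_smul]
  · rw [h4, smul_zero]

variable (P : Proj π v φ A Ai)
include P

theorem comm_of_ker {k : Γ} (hk : π k = 1) (g : Γ) : k * g = g * k := by
  obtain ⟨c, hc⟩ := (P.ker k).1 hk
  apply P.inj
  rw [map_mul, map_mul, hc, smul_mul_assoc, one_mul, mul_smul_comm, mul_one]

theorem eq_one_of_ker [CharP F 2] {k : Γ} (hk : π k = 1) (h2 : k * k = 1) : k = 1 := by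
  obtain ⟨c, hc⟩ := (P.ker k).1 hk
  apply P.inj
  rw [map_one]
  exact scalar_one hc (by rw [← map_mul, h2, map_one])

/-- two involutions with the same image are equal -/
theorem eq_of_pi [CharP F 2] {g g' : Γ} (h : g * g = 1) (h' : g' * g' = 1) (hp : π g' = π g) : g' = g := by
  set k := g' * g⁻¹ with hk
  have hk1 : π k = 1 := by rw [hk, map_mul, map_inv, hp, mul_inv_cancel]
  have hc := P.comm_of_ker hk1
  have hg' : g' = k * g := by rw [hk]; group
  have h2 : k * k = 1 := by
    have : k * g * (k * g) = 1 := by rw [← hg', h']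
    calc k * k = k * k * (g * g) := by rw [h, mul_one]
      _ = k * (k * g) * g := by group
      _ = k * (g * k) * g := by rw [hc g]
      _ = k * g * (k * g) := by group
      _ = 1 := this
  rw [hg', P.eq_one_of_ker hk1 h2, one_mul]

theorem comm_iff {g : Γ} : A * v g * Ai = v g ↔ A * v g = v g * A := by
  constructor
  · intro h
    calc A * v g = A * v g * (Ai * A) := by rw [P.inv', mul_one]
      _ = A * v g * Ai * A := by simp only [mul_assoc]
      _ = v g * A := by rw [h]
  · intro h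
    rw [h, mul_assoc, P.inv, mul_one]

theorem fix_of_comm {T : Γ} (hT : A * v T = v T * A) : φ (π T) = π T := by
  obtain ⟨T', h1, h2⟩ := P.conj T
  rw [P.comm_iff.2 hT] at h1
  rw [← h2, P.inj h1]

theorem mul_mem_aux {g g' : Γ} (h' : v g' = A * v g * Ai) (h : g * g = 1) : g' * g' = 1 := by
  apply P.inj
  rw [map_mul, h']
  calc A * v g * Ai * (A * v g * Ai) = A * v g * (Ai * A) * v g * Ai := by simp only [mul_assoc]
    _ = A * (v g * v g) * Ai := by rw [P.inv', mul_one]; simp only [mul_assoc]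
    _ = v 1 := by rw [← map_mul, h, map_one, mul_one, P.inv]

/-- **the lift of the involution** -/
theorem tight_lift [CharP F 2] {L : Subgroup X} (h : Act X φ L) :
    ∃ g : Γ, g ≠ 1 ∧ g * g = 1 ∧ A * v g = v g * A ∧ π g ∈ L ∧
      ∀ T : Γ, T * T = 1 → A * v T = v T * A →
        (∀ C : Γ, π C ∈ L → C * g = g * C → T * C = C * T) → T = 1 ∨ T = g := by
  obtain ⟨t, htL, ht1, ht2, -, ht⟩ := h.ct
  obtain ⟨g0, hg0⟩ := P.surj t
  have h1 : π (g0 * g0) = 1 := by rw [map_mul, hg0, ht2]
  obtain ⟨c, hc⟩ := (P.ker _).1 h1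
  obtain ⟨s, d, hs, hd⟩ := P.root _ c hc
  have hs1 : π s = 1 := (P.ker s).2 ⟨d, hs⟩
  have hss : s * s = g0 * g0 := by
    apply P.inj
    rw [map_mul, hs, hc, smul_mul_smul_comm, hd, one_mul]
  set g := s⁻¹ * g0 with hg
  have hsc := P.comm_of_ker hs1
  have hgg : g * g = 1 := by
    have h2 : g0 = s * g := by rw [hg]; group
    have h3 : s * s * (g * g) = s * s := by
      calc s * s * (g * g) = s * (s * g) * g := by group
        _ = s * (g * s) * g := by rw [hsc g]
        _ = s * g * (s * g) := by group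
        _ = s * s := by rw [← h2, hss]
    exact mul_left_cancel (h3.trans (mul_one _).symm)
  have hgt : π g = t := by rw [hg, map_mul, map_inv, hs1, inv_one, one_mul, hg0]
  have hgc : ∀ C : Γ, π C * t = t * π C → C * g = g * C := by
    intro C hC
    have h2 : C * g * C⁻¹ = g := by
      refine P.eq_of_pi hgg ?_ ?_
      · calc C * g * C⁻¹ * (C * g * C⁻¹) = C * (g * g) * C⁻¹ := by group
          _ = 1 := by rw [hgg, mul_one, mul_inv_cancel]
      · rw [map_mul, map_mul, map_inv, hgt, hC, mul_inv_cancel_right]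
    calc C * g = C * g * C⁻¹ * C := by group
      _ = g * C := by rw [h2]
  refine ⟨g, ?_, hgg, ?_, by rw [hgt]; exact htL, ?_⟩
  · intro h1
    rw [h1, map_one] at hgt
    exact ht1 hgt.symm
  · obtain ⟨g', h2, h3⟩ := P.conj g
    have h4 : g' = g := P.eq_of_pi hgg (P.mul_mem_aux h2 hgg) (by rw [h3, hgt, h.fix t htL])
    rw [h4] at h2
    exact P.comm_iff.1 h2.symm
  · intro T hTT hTA hTC
    have h2 := ht (π T) (by rw [← map_mul, hTT, map_one]) (P.fix_of_comm hTA) (by
      intro c hcL hct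
      obtain ⟨C, hC⟩ := P.surj c
      have h3 := hTC C (by rw [hC]; exact hcL) (hgc C (by rw [hC]; exact hct))
      rw [← hC, ← map_mul, h3, map_mul])
    rcases h2 with h2 | h2
    · left
      exact P.eq_one_of_ker h2 hTT
    · right
      exact P.eq_of_pi hgg hTT (by rw [h2, hgt])

/-- the full preimage of `L` commutes with `A` -/
theorem comm_of_mem {L : Subgroup X} (h : Act X φ L) {C : Γ} (hC : π C ∈ L) : A * v C = v C * A := by
  have hs := h.facts.simple
  -- the subgroup commuting with `A`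
  let Q : Subgroup Γ :=
    { carrier := {C | A * v C = v C * A}
      one_mem' := by
        show A * v 1 = v 1 * A
        rw [map_one, mul_one, one_mul]
      mul_mem' := by
        intro C D hC hD
        show A * v (C * D) = v (C * D) * A
        have hC' : A * v C = v C * A := hC
        have hD' : A * v D = v D * A := hD
        rw [map_mul, ← mul_assoc, hC', mul_assoc, hD', mul_assoc]
      inv_mem' := by
        intro C hC
        show A * v C⁻¹ = v C⁻¹ * A
        have hC' : A * v C = v C * A := hC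
        have h1 : v C⁻¹ * v C = 1 := by rw [← map_mul, inv_mul_cancel, map_one]
        have h2 : v C * v C⁻¹ = 1 := by rw [← map_mul, mul_inv_cancel, map_one]
        calc A * v C⁻¹ = (v C⁻¹ * v C) * A * v C⁻¹ := by rw [h1, one_mul]
          _ = v C⁻¹ * (v C * A) * v C⁻¹ := by simp only [mul_assoc]
          _ = v C⁻¹ * (A * v C) * v C⁻¹ := by rw [hC']
          _ = v C⁻¹ * A * (v C * v C⁻¹) := by simp only [mul_assoc]
          _ = v C⁻¹ * A := by rw [h2, mul_one] }
  have hQ : ∀ C, C ∈ Q ↔ A * v C = v C * A := fun C => Iff.rfl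
  have hker : ∀ k, π k = 1 → k ∈ Q := by
    intro k hk
    obtain ⟨c, hc⟩ := (P.ker k).1 hk
    rw [hQ, hc, smul_mul_assoc, one_mul, mul_smul_comm, mul_one]
  have hsc : ∀ C : Γ, π C ∈ L → ∃ k : Γ, π k = 1 ∧ A * v C * Ai = v (k * C) := by
    intro C hC
    obtain ⟨C', h1, h2⟩ := P.conj C
    refine ⟨C' * C⁻¹, ?_, ?_⟩
    · rw [map_mul, map_inv, h2, h.fix _ hC, mul_inv_cancel]
    · rw [← h1, inv_mul_cancel_right]
  have hcomm : ∀ C D : Γ, π C ∈ L → π D ∈ L → C * D * C⁻¹ * D⁻¹ ∈ Q := by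
    intro C D hC hD
    obtain ⟨k, hk1, hk2⟩ := hsc C hC
    obtain ⟨l, hl1, hl2⟩ := hsc D hD
    obtain ⟨k', hk1', hk2'⟩ := P.conj C
    obtain ⟨l', hl1', hl2'⟩ := P.conj D
    have e1 : k' = k * C := P.inj (by rw [hk1', hk2])
    have e2 : l' = l * D := P.inj (by rw [hl1', hl2])
    have hinv : ∀ E E' : Γ, v E' = A * v E * Ai → v E'⁻¹ = A * v E⁻¹ * Ai := by
      intro E E' hE
      have h1 : v E' * (A * v E⁻¹ * Ai) = 1 := by
        rw [hE]
        calc A * v E * Ai * (A * v E⁻¹ * Ai) = A * v E * (Ai * A) * v E⁻¹ * Ai := by simp only [mul_assoc]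
          _ = A * (v E * v E⁻¹) * Ai := by rw [P.inv', mul_one]; simp only [mul_assoc]
          _ = 1 := by rw [← map_mul, mul_inv_cancel, map_one, mul_one, P.inv]
      have h2 : v E'⁻¹ * v E' = 1 := by rw [← map_mul, inv_mul_cancel, map_one]
      calc v E'⁻¹ = v E'⁻¹ * (v E' * (A * v E⁻¹ * Ai)) := by rw [h1, mul_one]
        _ = A * v E⁻¹ * Ai := by rw [← mul_assoc, h2, one_mul]
    have hmul : ∀ E E' D D' : Γ, v E' = A * v E * Ai → v D' = A * v D * Ai → v (E' * D') = A * v (E * D) * Ai := by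
      intro E E' D D' hE hD
      rw [map_mul, map_mul, hE, hD]
      calc A * v E * Ai * (A * v D * Ai) = A * v E * (Ai * A) * v D * Ai := by simp only [mul_assoc]
        _ = A * (v E * v D) * Ai := by rw [P.inv', mul_one]; simp only [mul_assoc]
    have h3 : v (k' * l' * k'⁻¹ * l'⁻¹) = A * v (C * D * C⁻¹ * D⁻¹) * Ai :=
      hmul _ _ _ _ (hmul _ _ _ _ (hmul _ _ _ _ hk1' hl1') (hinv _ _ hk1')) (hinv _ _ hl1')
    have hkc := P.comm_of_ker hk1
    have hlc := P.comm_of_ker hl1
    have h4 : k' * l' * k'⁻¹ * l'⁻¹ = C * D * C⁻¹ * D⁻¹ := by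
      rw [e1, e2]
      calc k * C * (l * D) * (k * C)⁻¹ * (l * D)⁻¹ = k * (C * l) * D * (C⁻¹ * k⁻¹) * (D⁻¹ * l⁻¹) := by group
        _ = k * (l * C) * D * (C⁻¹ * k⁻¹) * (D⁻¹ * l⁻¹) := by rw [hlc C]
        _ = (k * (l * C * D * C⁻¹)) * k⁻¹ * D⁻¹ * l⁻¹ := by group
        _ = ((l * C * D * C⁻¹) * k) * k⁻¹ * D⁻¹ * l⁻¹ := by rw [hkc]
        _ = (l * (C * D * C⁻¹ * D⁻¹)) * l⁻¹ := by group
        _ = ((C * D * C⁻¹ * D⁻¹) * l) * l⁻¹ := by rw [hlc]
        _ = _ := by group
    rw [h4] at h3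
    exact P.comm_iff.1 h3.symm
  -- `L` is perfect
  have hperf : commutator ↥L = ⊤ := by
    refine (Subgroup.Normal.eq_bot_or_eq_top (inferInstance : (commutator ↥L).Normal)).resolve_left fun hb => h.facts.na ?_
    rw [commutator_eq_bot_iff_center_eq_top] at hb
    refine ⟨⟨fun a c => ?_⟩⟩
    have : a ∈ Subgroup.center ↥L := by rw [hb]; exact mem_top a
    exact ((mem_center_iff.1 this) c).symm
  have h5 : ∀ x : ↥L, ∃ D ∈ Q, π D = x := by
    have h6 : (⊤ : Subgroup ↥L) ≤ (Q.map π).comap L.subtype := by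
      rw [← hperf, commutator_def, commutator_le]
      intro x _ y _
      obtain ⟨C, hC⟩ := P.surj x
      obtain ⟨D, hD⟩ := P.surj y
      refine ⟨C * D * C⁻¹ * D⁻¹, hcomm C D (by rw [hC]; exact x.2) (by rw [hD]; exact y.2), ?_⟩
      rw [map_mul, map_mul, map_mul, map_inv, map_inv, hC, hD]
      rfl
    intro x
    obtain ⟨D, hD, hDx⟩ := h6 (mem_top x)
    exact ⟨D, hD, hDx⟩
  obtain ⟨D, hD, hDx⟩ := h5 ⟨π C, hC⟩
  have h7 : C * D⁻¹ ∈ Q := hker _ (by rw [map_mul, map_inv, hDx]; exact mul_inv_cancel _)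
  have h8 : C = C * D⁻¹ * D := by group
  rw [← hQ, h8]
  exact Q.mul_mem h7 hD

/-- **the centre trick** -/
theorem scalars [CharP F 2] {L : Subgroup X} (h : Act X φ L) {c : F}
    (hT : ∀ g : Γ, g * g = 1 → ∃ T : Γ, v T = 1 + c • (v g - 1)) : c = 0 ∨ c = 1 := by
  obtain ⟨g, hg1, hg2, hgA, -, hg⟩ := P.tight_lift h
  obtain ⟨T, hT⟩ := hT g hg2
  have hgv : v g * v g = 1 := by rw [← map_mul, hg2, map_one]
  have hN : (v g - 1) * (v g - 1) = 0 := by
    have h2 : (2 : Matrix ι ι F) = 0 := by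
      have h0 : (2 : F) = 0 := CharTwo.two_eq_zero
      have : (2 : Matrix ι ι F) = (2 : F) • 1 := by
        rw [two_smul, one_add_one_eq_two]
      rw [this, h0, zero_smul]
    have : (v g - 1) * (v g - 1) = v g * v g + 1 - 2 * v g := by noncomm_ring
    rw [this, hgv, h2, zero_mul, sub_zero, one_add_one_eq_two, h2]
  have hN1 : v g - 1 ≠ 0 := by
    intro h1
    apply hg1
    apply P.inj
    rw [map_one]
    exact sub_eq_zero.1 h1
  have hTT : T * T = 1 := by
    apply P.inj
    rw [map_mul, hT, map_one]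
    have : (1 + c • (v g - 1)) * (1 + c • (v g - 1)) =
        1 + (c • (v g - 1) + c • (v g - 1)) + (c * c) • ((v g - 1) * (v g - 1)) := by
      rw [← smul_mul_smul_comm]
      generalize c • (v g - 1) = Y
      noncomm_ring
    rw [this, hN, smul_zero, add_zero, ← two_smul F (c • (v g - 1)), CharTwo.two_eq_zero, zero_smul, add_zero]
  have hcm : ∀ M : Matrix ι ι F, M * v g = v g * M → v T * M = M * v T := by
    intro M hM
    rw [hT]
    have : (v g - 1) * M = M * (v g - 1) := by rw [sub_mul, mul_sub, hM, one_mul, mul_one]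
    rw [add_mul, mul_add, one_mul, mul_one, smul_mul_assoc, mul_smul_comm, this]
  rcases hg T hTT (hcm A hgA).symm (fun C _ hC => by
    apply P.inj
    rw [map_mul, map_mul]
    exact hcm _ (by rw [← map_mul, hC, map_mul])) with h1 | h1
  · left
    rw [h1, map_one] at hT
    have h2 : c • (v g - 1) = 0 := (left_eq_add.1 hT)
    exact (smul_eq_zero.1 h2).resolve_right hN1
  · right
    rw [h1] at hT
    have h2 : v g - 1 = c • (v g - 1) := by
      nth_rewrite 1 [hT]
      rw [add_sub_cancel_left]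
    have h3 : (c - 1) • (v g - 1) = 0 := by rw [sub_smul, one_smul, ← h2, sub_self]
    exact sub_eq_zero.1 ((smul_eq_zero.1 h3).resolve_right hN1)

end Proj

end Cfsg.Agent.H299
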