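import Cfsg.Agent.H299.RedLocal

/-!
# `Facts` is invariant under isomorphism
-/

set_option autoImplicit false

namespace Cfsg.Agent.H299

open Subgroup Cfsg

theorem map_centralizer {L M : Type*} [Group L] [Group M] (e : L ≃* M) (t : L) :
    (centralizer ({t} : Set L)).map e.toMonoidHom = centralizer ({e t} : Set M) := by
  ext g
  rw [mem_centralizer_singleton_iff]
  constructor
  · rintro ⟨x, hx, rfl⟩
    show e x * e t = e t * e x
    rw [← map_mul, ← map_mul, mem_centralizer_singleton_iff.1 hx]
  · intro h
    refine ⟨e.symm g, ?_, e.apply_symm_apply g⟩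
    have h2 := congrArg e.symm h
    rw [map_mul, map_mul, e.symm_apply_apply] at h2
    exact mem_centralizer_singleton_iff.2 h2

theorem Facts.congr {L M : Type*} [Group L] [Group M] (e : L ≃* M) (h : Facts M) : Facts L := by
  have hfin := h.fin
  have hfL : Finite L := Finite.of_equiv _ e.symm.toEquiv
  have hsM := h.simple
  refine ⟨hfL, ?_, ?_, ?_, ?_, ?_, ?_, ?_, ?_, ?_⟩
  · have : Nontrivial L := e.toEquiv.nontrivial
    exact IsSimpleGroup.isSimpleGroup_of_surjective e.symm.toMonoidHom e.symm.surjective
  · intro hc
    refine h.na ⟨⟨fun a b => ?_⟩⟩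
    have h1 := congrArg e (hc.is_comm.comm (e.symm a) (e.symm b))
    rwa [map_mul, map_mul, e.apply_symm_apply, e.apply_symm_apply] at h1
  · intro α
    obtain ⟨x, hx⟩ := h.inner ((MulAut.congr e) α)
    refine ⟨e.symm x, ?_⟩
    ext y
    have h1 : (MulAut.congr e) α (e y) = x * e y * x⁻¹ := by rw [hx, MulAut.conj_apply]
    have h2 : (MulAut.congr e) α (e y) = e (α y) := by simp [MulAut.congr]
    rw [h2] at h1
    apply e.injective
    rw [h1, MulAut.conj_apply, map_mul, map_mul, map_inv, MulEquiv.apply_symm_apply]
  · obtain ⟨A, hA, hc⟩ := h.e27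
    exact ⟨A.map e.symm.toMonoidHom, RedLocal.isElem_map _ hA,
      by rw [Subgroup.card_map_of_injective e.symm.injective, hc]⟩
  · intro A Q hA hc hQ hn
    have h1 : Q.map e.toMonoidHom = ⊥ := h.noQ (A.map e.toMonoidHom) _ (RedLocal.isElem_map _ hA)
      (by rw [Subgroup.card_map_of_injective e.injective, hc]) (hQ.map _) (RedLocal.map_normalizer _ hn)
    exact (Subgroup.map_eq_bot_iff_of_injective _ e.injective).1 h1
  · exact Sigma.Pair.pRankLE_congr e.symm h.rk
  · obtain ⟨t, ht1, ht2, h5, hz, h7⟩ := h.transv
    refine ⟨e.symm t, fun h => ht1 ?_, ?_, ?_, ?_, ?_⟩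
    · rw [← e.apply_symm_apply t, h, map_one]
    · rw [← map_mul, ht2, map_one]
    · rw [← map_centralizer e.symm t, Subgroup.card_map_of_injective e.symm.injective]
      exact h5
    rotate_left
    · rw [← map_centralizer e.symm t, Subgroup.card_map_of_injective e.symm.injective]
      exact h7
    · intro z hz1 hc
      have h1 : e z = 1 ∨ e z = t := by
        refine hz _ ?_ ?_
        · have := congrArg e hz1
          rwa [map_mul, map_mul, e.apply_symm_apply] at this
        · intro c hc'
          have h2 := hc (e.symm c) (by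
            have h3 := congrArg e.symm hc'
            rw [map_mul, map_mul] at h3
            exact h3)
          have h3 := congrArg e h2
          rw [map_mul, map_mul, e.apply_symm_apply] at h3
          exact h3
      rcases h1 with h1 | h1
      · left
        rw [← e.symm_apply_apply z, h1, map_one]
      · right
        rw [← e.symm_apply_apply z, h1]
  · rw [Nat.card_congr e.toEquiv, h.card]
  · obtain ⟨x, y, hx, hy, hxy, h1, h2, h3⟩ := h.klein
    refine ⟨e.symm x, e.symm y, fun h => hx ?_, fun h => hy ?_, fun h => hxy (e.symm.injective h), ?_, ?_, ?_⟩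
    · rw [← e.apply_symm_apply x, h, map_one]
    · rw [← e.apply_symm_apply y, h, map_one]
    · rw [← map_mul, h1, map_one]
    · rw [← map_mul, h2, map_one]
    · rw [← map_mul, ← map_mul, h3]

end Cfsg.Agent.H299
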