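import Cfsg.Agent.H299.AbQ
import Cfsg.Agent.H523.FpfChev
import Cfsg.Agent.H523.FpfCycFam
import Cfsg.Agent.S2605

/-!
# `AbK` for groups with cyclic outer automorphism group
-/

set_option autoImplicit false

namespace Cfsg.Agent.H299.RowExc

open Subgroup Cfsg Cfsg.Agent.H299.AbQ

theorem abK_of_cycOut {X : Type} [Group X] (h : H523.CycOut X) : AbK X (MulAut.conj : X →* MulAut X).range := by
  obtain ⟨β, h⟩ := h
  have hn := H523.conj_range_normal X
  refine ⟨MulAut X ⧸ (MulAut.conj : X →* MulAut X).range, inferInstance, QuotientGroup.mk' _, ?_,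
    (QuotientGroup.ker_mk' _).le⟩
  have key : ∀ x : MulAut X ⧸ (MulAut.conj : X →* MulAut X).range, ∃ k : ℤ,
      x = (QuotientGroup.mk' (MulAut.conj : X →* MulAut X).range β) ^ k := by
    intro x
    obtain ⟨α, rfl⟩ := QuotientGroup.mk'_surjective _ x
    obtain ⟨g, k, rfl⟩ := h α
    refine ⟨k, ?_⟩
    have h1 : QuotientGroup.mk' (MulAut.conj : X →* MulAut X).range (MulAut.conj g) = 1 :=
      (QuotientGroup.eq_one_iff _).mpr ⟨g, rfl⟩
    rw [map_mul, h1, one_mul, map_zpow]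
  intro x y
  obtain ⟨k, rfl⟩ := key x
  obtain ⟨l, rfl⟩ := key y
  rw [← zpow_add, ← zpow_add, add_comm]

theorem abK_of_out {X : Type} [Group X] (h : IsCyclic (Cfsg.Out X)) : AbK X (MulAut.conj : X →* MulAut X).range := by
  refine ⟨Cfsg.Out X, inferInstance, QuotientGroup.mk' _, fun x y => ?_, (QuotientGroup.ker_mk' _).le⟩
  have := h
  let _ := IsCyclic.commGroup (α := Cfsg.Out X)
  exact mul_comm x y

variable {F : Type} [Field F] [Fintype F]

theorem abK_g2 (hq : 3 ≤ Fintype.card F) : AbK ↥(Lie.chevG2.group F) (MulAut.conj : _ →* MulAut ↥(Lie.chevG2.group F)).range :=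
  abK_of_cycOut (H523.Chev.cycOut_G2 hq)

theorem abK_f4 : AbK ↥(Lie.chevF4.group F) (MulAut.conj : _ →* MulAut ↥(Lie.chevF4.group F)).range :=
  abK_of_cycOut H523.Chev.cycOut_F4

theorem abK_d4 [CharP F 2] {q : ℕ} (hq : IsPrimePow q) (hK : Fintype.card F = q ^ 3) :
    AbK ↥(Lie.twistedD4 F q) (MulAut.conj : _ →* MulAut ↥(Lie.twistedD4 F q)).range :=
  abK_of_cycOut (H523.TwD4.cycOut hq hK 2)

theorem abK_om {f m : ℕ} (hf : 1 ≤ f) (hF : Fintype.card F = 2 ^ f) (hm : 4 ≤ m) (a b : F)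
    (hab : ∀ z₁ z₂ : F, z₁ ^ 2 + a * z₁ * z₂ + b * z₂ ^ 2 = 0 → z₁ = 0 ∧ z₂ = 0) :
    AbK (POmega F (quadFormMinus (m - 1) F a b)) (MulAut.conj : _ →* MulAut (POmega F (quadFormMinus (m - 1) F a b))).range :=
  abK_of_out (S2605.result hf hF hm a b hab).1

end Cfsg.Agent.H299.RowExc
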