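import Cfsg.Agent.H299.Centre
import Cfsg.Agent.H299.AbQ
import Cfsg.Agent.H299.CenAux
import Cfsg.Agent.H183.OutPSU

/-!
# `PSU_n(q)`
-/

set_option autoImplicit false
set_option linter.unusedSectionVars false

namespace Cfsg.Agent.H299.RowPSU

open Cfsg Cfsg.Agent.LieClassical.HermBasic Cfsg.Agent.LieClassical.HermSiegel
  Cfsg.Agent.LieClassical.HermGen Cfsg.Agent.LieClassical.SUBasic Matrix
open Cfsg.Agent.ClassicalGeometry.PSUAutCount Cfsg.Agent.ClassicalGeometry.UnitAutBasic
open Cfsg.Agent.LieClassical.FieldTransfer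
open Cfsg.Agent.H183.OutAbs Cfsg.Agent.H183.OutPSU Cfsg.Agent.H299.CenAux

/-- automorphisms modulo `PGU` -/
theorem abK {K : Type} [Field K] [Fintype K] {q n : ℕ}
    (hK : Fintype.card K = q ^ 2) (hn : 3 ≤ n) (h32 : ¬ (n = 3 ∧ q = 2)) :
    AbQ.AbK (PSU n K q) (NN n q K) := by
  have hsurj := Cfsg.Agent.ClassicalGeometry.PSUAutMain.exists_toAut hK hn h32
  have hN : (NN n q K).Normal := normal_of hsurj
  obtain ⟨e, h1, h2, -⟩ := exists_split_hom (NN n q K) (sG n q K)
    (fun α => by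
      obtain ⟨A, σ, rfl⟩ := hsurj α
      exact ⟨σ, cG n q K A, ⟨A, rfl⟩, toAut_eq A σ⟩)
    (fun σ hσ => by
      obtain ⟨A, hA⟩ := hσ
      exact (eq_of_toAut_eq hK hn (A := A) (A' := 1) (ρ := 1) (ρ' := σ) hA).1)
  have hc : IsCyclic (K ≃+* K) := Cfsg.Agent.LieRecognition.FieldSemilinear.isCyclic_ringAut K
  exact ⟨K ≃+* K, inferInstance, e, fun x y => hc.commGroup.mul_comm x y, h2.le⟩

/-- the matrices -/
def vSU (n : ℕ) (F : Type*) [Field F] (q : ℕ) : SU n F q →* Matrix (Fin n) (Fin n) F where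
  toFun g := mat g
  map_one' := rfl
  map_mul' g h := mat_mul g h

theorem semiConj_one {F : Type*} [Field F] {q n : ℕ} (A : GU n F q) (g : SU n F q) : semiConj A 1 g = guConj A g := by
  apply ext_act
  intro y
  have hy : y = gm A *ᵥ (gm A⁻¹ *ᵥ y) := (gm_mulVec_inv _ _).symm
  have h1 := act_semiConj A 1 g (gm A⁻¹ *ᵥ y)
  have e : (gm A *ᵥ fun i => (1 : F ≃+* F) ((gm A⁻¹ *ᵥ y) i)) = y := gm_mulVec_inv _ _
  rw [e] at h1
  rw [h1, act_guConj]
  rfl

/-- the projective setting -/
theorem proj {F : Type*} [Field F] [Fintype F] [CharP F 2] {n q : ℕ} (hF : Fintype.card F = q ^ 2) (hn : 3 ≤ n)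
    (A : GU n F q) : Proj (pr n F q) (vSU n F q) (cG n q F A) (gm A) (gm A⁻¹) := by
  refine ⟨pr_surjective, mat_injective, ?_, gm_mul_inv A, gm_inv_mul A, ?_, ?_⟩
  · intro g
    constructor
    · intro h
      have h1 : g ∈ Subgroup.center (SU n F q) := by
        have h2 : (QuotientGroup.mk g : PSU n F q) = 1 := h
        exact (QuotientGroup.eq_one_iff g).1 h2
      obtain ⟨c, -, hc⟩ := exists_scalar_of_mem_center hF hn h1
      refine ⟨c, ?_⟩
      apply Matrix.ext_of_mulVec_single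
      intro i
      rw [Matrix.smul_mulVec, Matrix.one_mulVec]
      exact hc _
    · rintro ⟨c, hc⟩
      have h1 : g ∈ Subgroup.center (SU n F q) := by
        refine mem_center_of_scalar (c := c) fun x => ?_
        rw [act_def]
        have : mat g = c • 1 := hc
        rw [this, Matrix.smul_mulVec, Matrix.one_mulVec]
      exact (QuotientGroup.eq_one_iff g).2 h1
  · intro g
    refine ⟨guConj A g, rfl, ?_⟩
    rw [cG_apply, toAut_pr, semiConj_one]
  · intro g c hc
    have hc' : mat g = c • 1 := hc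
    obtain ⟨d, hd⟩ := exists_sqrt c
    have h1 : (c • (1 : Matrix (Fin n) (Fin n) F)).det = 1 := by rw [← hc']; exact det_mat g
    rw [Matrix.det_smul, Matrix.det_one, mul_one, Fintype.card_fin, ← hd, mul_pow] at h1
    have hdn : d ^ n = 1 := eq_one_of_sq h1
    have hdq : d ^ (q + 1) = 1 := by
      apply eq_one_of_sq
      have h2 := herm_act g (Pi.single ⟨0, by omega⟩ 1) (Pi.single ⟨0, by omega⟩ 1)
      rw [act_def, hc', Matrix.smul_mulVec, Matrix.one_mulVec, herm_smul_left, herm_smul_right,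
        herm_single_left, Pi.single_eq_same, one_pow, mul_one, mul_one] at h2
      rw [← mul_pow, hd, pow_succ']
      exact h2
    refine ⟨suScalar q d hdn hdq, d, ?_, hd⟩
    show mat _ = _
    rw [mat_def, coe_suScalar, ← Matrix.smul_one_eq_diagonal]

/-- the isometries `1 + c (g - 1)` -/
theorem isom {F : Type*} [Field F] [Fintype F] [CharP F 2] {n q : ℕ} (hF : Fintype.card F = q ^ 2) {g : SU n F q}
    (hg : g * g = 1) {c : F} (hc : c ^ q = c) (u v : Fin n → F) :
    hermForm n F q ((1 + c • (mat g - 1)) *ᵥ u) ((1 + c • (mat g - 1)) *ᵥ v) = hermForm n F q u v := by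
  have h0 : (2 : F) = 0 := CharTwo.two_eq_zero
  have hgi : g⁻¹ = g := inv_eq_of_mul_eq_one_left hg
  have e : ∀ u, (1 + c • (mat g - 1)) *ᵥ u = u + c • (act g u - u) := by
    intro u
    rw [Matrix.add_mulVec, Matrix.one_mulVec, Matrix.smul_mulVec, Matrix.sub_mulVec, Matrix.one_mulVec]
    rfl
  rw [e, e, herm_add_left, herm_add_right hF, herm_add_right hF, herm_smul_left, herm_smul_left, herm_smul_right,
    herm_smul_right, hc, herm_sub_left, herm_sub_left, herm_sub_right hF, herm_sub_right hF,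
    herm_act, herm_act_left, hgi]
  linear_combination (c * hermForm n F q u (act g v) - c * hermForm n F q u v + c * c * hermForm n F q u v -
    c * c * hermForm n F q u (act g v)) * h0

/-- **`PSU_n(q)`: `q = 2`** -/
theorem q_eq_two {F : Type} [Field F] [Fintype F] [CharP F 2] {n q : ℕ} (hF : Fintype.card F = q ^ 2) (hn : 3 ≤ n)
    {φ : MulAut (PSU n F q)} {L : Subgroup (PSU n F q)} (h : Act _ φ L) (hφ : φ ∈ NN n q F) : q = 2 := by
  obtain ⟨A, rfl⟩ := hφ
  have key : ∀ c : F, c ^ q = c → c = 0 ∨ c = 1 := by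
    intro c hc
    refine (proj hF hn A).scalars h fun g hg => ?_
    have hg' : mat g * mat g = 1 := by rw [← mat_mul, hg, mat_one]
    exact ⟨mkSU _ (det_eq_one (sq_one hg' c)) (isom hF hg hc), rfl⟩
  have h1 := card_fixed hF
  have h2 : Nat.card {x : F // x ^ q = x} = 2 := by
    rw [Nat.card_eq_two_iff]
    refine ⟨⟨0, zero_pow_q hF⟩, ⟨1, one_pow q⟩, fun h => zero_ne_one (congrArg Subtype.val h), ?_⟩
    ext ⟨c, hc⟩
    simp only [Set.mem_insert_iff, Set.mem_singleton_iff, Set.mem_univ, iff_true]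
    rcases key c hc with h | h
    · exact Or.inl (Subtype.ext h)
    · exact Or.inr (Subtype.ext h)
  rw [← h1, h2]

end Cfsg.Agent.H299.RowPSU
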