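import Cfsg.Agent.H299.RowPSU
import Cfsg.Agent.GpUn.Row
import Cfsg.Agent.S0278
import Cfsg.Agent.S0280

/-!
# `PSU_5(2)` and `PSU_6(2)`
-/

set_option autoImplicit false
set_option linter.unusedSectionVars false

namespace Cfsg.Agent.H299.RowU6

open Cfsg Module Matrix
open Cfsg.Agent.LieClassical.HermBasic Cfsg.Agent.LieClassical.HermSiegel
open Cfsg.Agent.ClassicalGeometry.HermOrtho
open Cfsg.Agent.ClassicalGeometry.PSUAutCount
open Cfsg.Agent.H299.CenAux Cfsg.Agent.H183.OutPSU Cfsg.Agent.H299.RowPSU Cfsg.Agent.GpUn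
open Cfsg.Agent.ClassicalGeometry.UnitAutBasic (pr pr_surjective)

variable {F : Type} [Field F] [Fintype F]

theorem not_dvd_SU (hF : Fintype.card F = 2 ^ 2) {m : ℕ} (h1 : 1 ≤ m) (h5 : m ≤ 5) : ¬ 7 ∣ Nat.card (SU m F 2) := by
  intro h
  have h2 := S0278.result hF m h1
  have h3 : 7 ∣ 2 ^ (m * (m - 1) / 2) * ∏ i ∈ Finset.range m, (if Even i then 2 ^ (i + 1) + 1 else 2 ^ (i + 1) - 1) := by
    rw [← h2]
    exact Dvd.dvd.mul_left h _
  have h4 : 7 ∣ ∏ i ∈ Finset.range m, (if Even i then 2 ^ (i + 1) + 1 else 2 ^ (i + 1) - 1) :=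
    (Nat.Coprime.dvd_of_dvd_mul_left (Nat.Coprime.pow_right _ (by norm_num)) h3)
  interval_cases m <;> revert h4 <;> decide

/-- elements of order 7 act trivially on nondegenerate subspaces of dimension at most 5 -/
theorem act_triv (hF : Fintype.card F = 2 ^ 2) {n : ℕ} {U : Submodule F (Fin n → F)} (hU : ND 2 U)
    (h5 : finrank F U ≤ 5) {y : SU n F 2} (hy : y ^ 7 = 1) (hyU : ∀ u ∈ U, act y u ∈ U) {u : Fin n → F} (hu : u ∈ U) :
    act y u = u := by
  rcases Nat.eq_zero_or_pos (finrank F U) with h0 | h1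
  · have : U = ⊥ := Submodule.finrank_eq_zero.1 h0
    rw [this, Submodule.mem_bot] at hu
    rw [hu, act_zero]
  have hpq : Nat.Coprime 7 (2 + 1) := by norm_num
  obtain ⟨g, hg1, hg2⟩ := exists_glue hF hpq hU hy hyU
  have hg7 : g ^ 7 = 1 := by
    refine ext_dec hF hU (fun u hu => ?_) (fun w hw => ?_)
    · have key : ∀ k : ℕ, act (g ^ k) u = act (y ^ k) u := by
        intro k
        induction k with
        | zero => rw [pow_zero, pow_zero]
        | succ k ih =>
          rw [pow_succ', act_mul, ih, pow_succ', act_mul, hg1 _ (act_pow_mem hyU k hu)]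
      rw [key, hy]
    · rw [act_pow_fix 7 (hg2 w hw), act_one]
  obtain ⟨e⟩ := exists_equiv hF U hU rfl
  have hgm : g ∈ fixG 2 (hermPerp 2 (U : Set (Fin n → F))) := hg2
  set g' := e.symm ⟨g, hgm⟩ with hg'
  have h7 : g' ^ 7 = 1 := by
    rw [hg', ← map_pow]
    have : (⟨g, hgm⟩ : fixG 2 (hermPerp 2 (U : Set (Fin n → F)))) ^ 7 = 1 := Subtype.ext hg7
    rw [this, map_one]
  have h8 : g' = 1 := by
    by_contra hne
    have : Fact (Nat.Prime 7) := ⟨by norm_num⟩
    have h9 := orderOf_eq_prime h7 hne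
    exact not_dvd_SU hF h1 h5 (h9 ▸ orderOf_dvd_natCard g')
  have h9 : g = 1 := by
    have h10 : e g' = ⟨g, hgm⟩ := by rw [hg', e.apply_symm_apply]
    rw [h8, map_one] at h10
    exact (congrArg Subtype.val h10).symm
  rw [← hg1 u hu, h9, act_one]

theorem pow_three (hF : Fintype.card F = 2 ^ 2) {c : F} (hc : c ≠ 0) : c ^ 3 = 1 := by
  have := FiniteField.pow_card_sub_one_eq_one c hc
  rwa [hF] at this

theorem isom_of_selfadj [CharP F 2] {q n : ℕ} (hF : Fintype.card F = q ^ 2) {X : Matrix (Fin n) (Fin n) F}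
    (hadj : ∀ u v, hermForm n F q (X *ᵥ u) v = hermForm n F q u (X *ᵥ v)) (hX : X * X = 0) (u v : Fin n → F) :
    hermForm n F q ((1 + X) *ᵥ u) ((1 + X) *ᵥ v) = hermForm n F q u v := by
  have h0 : (2 : F) = 0 := CharTwo.two_eq_zero
  rw [Matrix.add_mulVec, Matrix.add_mulVec, Matrix.one_mulVec, Matrix.one_mulVec, herm_add_left, herm_add_right hF,
    herm_add_right hF, hadj u v, hadj u (X *ᵥ v), Matrix.mulVec_mulVec, hX, Matrix.zero_mulVec, herm_zero_right hF]
  linear_combination (hermForm n F q u (X *ᵥ v)) * h0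

/-- **`U₆(2)`** -/
theorem false_six [CharP F 2] (hF : Fintype.card F = 2 ^ 2) {φ : MulAut (PSU 6 F 2)} {L : Subgroup (PSU 6 F 2)}
    (h : Act _ φ L) (hφ : φ ∈ NN 6 2 F) : False := by
  obtain ⟨A, rfl⟩ := hφ
  have P := proj hF (by norm_num : 3 ≤ 6) A
  -- `A ^ 3` is a scalar
  obtain ⟨c, hc1, hc⟩ : ∃ c : F, c * c ^ 2 = 1 ∧ gm A * gm A * gm A = c • 1 := by
    have h1 : cG 6 2 F (A * A * A) = cG 6 2 F 1 := by
      rw [map_one, ← h.cube, map_mul, map_mul, pow_succ, pow_two]
    obtain ⟨-, c, h2, h3⟩ := eq_of_toAut_eq hF (by norm_num : 3 ≤ 6) (h1.symm : toAut 1 1 = toAut (A * A * A) 1)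
    exact ⟨c, h2, h3⟩
  set M := gm A with hM
  set Mi := gm A⁻¹ with hMi
  have hMM : M * Mi = 1 := P.inv
  have hMM' : Mi * M = 1 := P.inv'
  by_cases hc0 : c = 1
  · rw [hc0, one_smul] at hc
    have hfin := h.fin
    have hMadj : ∀ u v, hermForm 6 F 2 u (M *ᵥ v) = hermForm 6 F 2 (Mi *ᵥ u) v := by
      intro u v
      rw [← herm_gm A (Mi *ᵥ u) v, Matrix.mulVec_mulVec, ← hM, hMM, Matrix.one_mulVec]
    -- the eigenspaces
    let E : F → Submodule F (Fin 6 → F) := fun α =>
      { carrier := {v | M *ᵥ v = α • v}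
        add_mem' := fun {a b} ha hb => by
          have ha' : M *ᵥ a = α • a := ha
          have hb' : M *ᵥ b = α • b := hb
          show M *ᵥ (a + b) = α • (a + b)
          rw [Matrix.mulVec_add, ha', hb', smul_add]
        zero_mem' := by
          show M *ᵥ 0 = α • 0
          rw [Matrix.mulVec_zero, smul_zero]
        smul_mem' := fun r a ha => by
          have ha' : M *ᵥ a = α • a := ha
          show M *ᵥ (r • a) = α • (r • a)
          rw [Matrix.mulVec_smul, ha', smul_comm] }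
    have hE : ∀ α v, v ∈ E α ↔ M *ᵥ v = α • v := fun α v => Iff.rfl
    have hMi' : ∀ {α : F}, α ≠ 0 → ∀ {u}, u ∈ E α → Mi *ᵥ u = (α * α) • u := by
      intro α hα u hu
      have h1 : u = α • (Mi *ᵥ u) := by
        have h2 := congrArg (fun w => Mi *ᵥ w) ((hE α u).1 hu)
        simp only [Matrix.mulVec_mulVec, hMM', Matrix.one_mulVec, Matrix.mulVec_smul] at h2
        exact h2
      have h3 := pow_three hF hα
      calc Mi *ᵥ u = (α ^ 3) • (Mi *ᵥ u) := by rw [h3, one_smul]
        _ = (α * α) • (α • (Mi *ᵥ u)) := by rw [smul_smul]; congr 1; ring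
        _ = (α * α) • u := by rw [← h1]
    let pj : F → (Fin 6 → F) → (Fin 6 → F) := fun α x => x + ((α * α) • (M *ᵥ x) + α • (M *ᵥ (M *ᵥ x)))
    have hM3 : ∀ x, M *ᵥ (M *ᵥ (M *ᵥ x)) = x := by
      intro x
      rw [Matrix.mulVec_mulVec, Matrix.mulVec_mulVec, hc, Matrix.one_mulVec]
    have hpj : ∀ {α : F}, α ≠ 0 → ∀ x, pj α x ∈ E α := by
      intro α hα x
      have h3 := pow_three hF hα
      rw [hE]
      show M *ᵥ (x + ((α * α) • (M *ᵥ x) + α • (M *ᵥ (M *ᵥ x)))) = α • (x + ((α * α) • (M *ᵥ x) + α • (M *ᵥ (M *ᵥ x))))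
      rw [Matrix.mulVec_add, Matrix.mulVec_add, Matrix.mulVec_smul, Matrix.mulVec_smul, hM3, smul_add, smul_add,
        smul_smul, smul_smul]
      have h4 : α * (α * α) = 1 := by rw [← h3]; ring
      rw [h4, one_smul]
      abel
    have hND : ∀ {α : F}, α ≠ 0 → ND 2 (E α) := by
      intro α hα u hu hv
      apply herm_nondeg hF
      intro x
      have h1 := hv _ (hpj hα x)
      have h3 := pow_three hF hα
      have h4 : hermForm 6 F 2 u (M *ᵥ x) = (α * α) * hermForm 6 F 2 u x := by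
        rw [hMadj, hMi' hα hu, herm_smul_left]
      have h5 : hermForm 6 F 2 u (M *ᵥ (M *ᵥ x)) = (α * α) * ((α * α) * hermForm 6 F 2 u x) := by
        rw [hMadj, hMi' hα hu, herm_smul_left, h4]
      have h6 : hermForm 6 F 2 u (pj α x) = hermForm 6 F 2 u x +
          ((α * α) ^ 2 * ((α * α) * hermForm 6 F 2 u x) + α ^ 2 * ((α * α) * ((α * α) * hermForm 6 F 2 u x))) := by
        show hermForm 6 F 2 u (x + ((α * α) • (M *ᵥ x) + α • (M *ᵥ (M *ᵥ x)))) = _
        rw [herm_add_right hF, herm_add_right hF, herm_smul_right, herm_smul_right, h4, h5]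
      rw [h6] at h1
      have h0 : (2 : F) = 0 := CharTwo.two_eq_zero
      have h7 : α ^ 6 = 1 := by
        calc α ^ 6 = (α ^ 3) ^ 2 := by ring
          _ = 1 := by rw [h3, one_pow]
      linear_combination h1 - (hermForm 6 F 2 u x) * h0 - (2 * hermForm 6 F 2 u x) * h7
    have hdim : ∀ α : F, finrank F (E α) ≤ 5 := by
      intro α
      by_contra hlt
      push Not at hlt
      have h1 : E α = ⊤ := by
        apply Submodule.eq_top_of_finrank_eq
        have h2 := Submodule.finrank_le (E α)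
        rw [finrank_fin_fun] at h2 ⊢
        omega
      have h2 : M = α • 1 := by
        apply Matrix.ext_of_mulVec_single
        intro i
        rw [Matrix.smul_mulVec, Matrix.one_mulVec]
        exact (hE α _).1 (by rw [h1]; trivial)
      apply h.ne_one
      apply MulEquiv.ext
      intro x
      obtain ⟨T, rfl⟩ := P.surj x
      rw [P.fix_of_comm (by rw [h2, smul_mul_assoc, one_mul, mul_smul_comm, mul_one])]
      rfl
    -- the element of order 7
    obtain ⟨z0, hz0⟩ := exists_prime_orderOf_dvd_card' (G := ↥L) (p := 7) (hp := ⟨by norm_num⟩)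
      (by rw [h.facts.card]; norm_num)
    obtain ⟨Z0, hZ0⟩ := P.surj (z0 : PSU 6 F 2)
    have hz7 : (z0 : PSU 6 F 2) ^ 7 = 1 := by
      have h1 : z0 ^ 7 = 1 := by rw [← hz0, pow_orderOf_eq_one]
      exact congrArg Subtype.val h1
    have hzc : Z0 ^ 7 ∈ Subgroup.center (SU 6 F 2) := by
      have h1 : pr 6 F 2 (Z0 ^ 7) = 1 := by rw [map_pow, hZ0, hz7]
      exact (QuotientGroup.eq_one_iff (Z0 ^ 7)).1 h1
    have h21 : (Z0 ^ 7) ^ 3 = 1 := GpUn.center_pow hF (by norm_num) hzc
    set Z := Z0 ^ 15 with hZ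
    have hZ7 : Z ^ 7 = 1 := by
      calc Z ^ 7 = ((Z0 ^ 7) ^ 3) ^ 5 := by rw [hZ, ← pow_mul, ← pow_mul, ← pow_mul]
        _ = 1 := by rw [h21, one_pow]
    have hZp : pr 6 F 2 Z = z0 := by
      have h1 : (z0 : PSU 6 F 2) ^ 15 = z0 := by
        generalize (z0 : PSU 6 F 2) = w at hz7
        calc w ^ 15 = (w ^ 7) ^ 2 * w := by rw [← pow_mul, ← pow_succ]
          _ = w := by rw [hz7, one_pow, one_mul]
      rw [hZ, map_pow, hZ0, h1]
    have hZM : M * mat Z = mat Z * M := P.comm_of_mem h (by rw [hZp]; exact z0.2)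
    have hZE : ∀ α : F, ∀ u ∈ E α, act Z u ∈ E α := by
      intro α u hu
      rw [hE] at hu ⊢
      rw [act_def, Matrix.mulVec_mulVec, hZM, ← Matrix.mulVec_mulVec, hu, Matrix.mulVec_smul]
    have hfix : ∀ {α : F}, α ≠ 0 → ∀ x, act Z (pj α x) = pj α x := fun {α} hα x =>
      act_triv hF (hND hα) (hdim α) hZ7 (hZE α) (hpj hα x)
    obtain ⟨ω, hω0, hω1⟩ : ∃ ω : F, ω ≠ 0 ∧ ω ≠ 1 := by
      by_contra hcon
      push Not at hcon
      have h1 := card_eq_two (F := F) fun c => by
        by_cases h0 : c = 0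
        · exact Or.inl h0
        · exact Or.inr (hcon c h0)
      rw [hF] at h1
      norm_num at h1
    have hω : ω * ω + ω + 1 = 0 := by
      have h1 := pow_three hF hω0
      have h2 : (ω - 1) * (ω * ω + ω + 1) = 0 := by linear_combination h1
      exact (mul_eq_zero.1 h2).resolve_left (sub_ne_zero.2 hω1)
    have hω3 := pow_three hF hω0
    have hdec : ∀ x, x = pj 1 x + pj ω x + pj (ω * ω) x := by
      intro x
      have h0 : (2 : F) = 0 := CharTwo.two_eq_zero
      funext i
      show x i = (x i + ((1 * 1) * (M *ᵥ x) i + 1 * (M *ᵥ (M *ᵥ x)) i)) +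
        (x i + ((ω * ω) * (M *ᵥ x) i + ω * (M *ᵥ (M *ᵥ x)) i)) +
        (x i + ((ω * ω * (ω * ω)) * (M *ᵥ x) i + (ω * ω) * (M *ᵥ (M *ᵥ x)) i))
      linear_combination (-x i) * h0 - ((M *ᵥ x) i) * hω - ((M *ᵥ (M *ᵥ x)) i) * hω - ω * ((M *ᵥ x) i) * hω3
    have hZ1 : Z = 1 := by
      apply ext_act
      intro x
      rw [act_one]
      conv_lhs => rw [hdec x]
      rw [act_add, act_add, hfix one_ne_zero, hfix hω0, hfix (mul_ne_zero hω0 hω0), ← hdec x]
    rw [hZ1, map_one] at hZp
    have h1 : z0 = 1 := Subtype.ext hZp.symm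
    rw [h1, orderOf_one] at hz0
    norm_num at hz0
  · -- the case `c ≠ 1`
    obtain ⟨g, hg1, hg2, hgA, -, hg⟩ := P.tight_lift h
    have hgm : mat g * mat g = 1 := by rw [← mat_mul, hg2, mat_one]
    have hgA' : M * mat g = mat g * M := hgA
    set N : Matrix (Fin 6) (Fin 6) F := mat g - 1 with hN
    have hNN : N * N = 0 := sq_zero hgm
    have hN0 : N ≠ 0 := by
      intro h1
      exact hg1 (mat_injective (by rw [mat_one]; exact sub_eq_zero.1 h1))
    have h2M : (2 : Matrix (Fin 6) (Fin 6) F) = 0 := two_eq_zero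
    have hcomm : ∀ D : Matrix (Fin 6) (Fin 6) F, M * D = D * M → Mi * D = D * Mi := by
      intro D hD
      calc Mi * D = Mi * D * (M * Mi) := by rw [hMM, mul_one]
        _ = Mi * (D * M) * Mi := by simp only [mul_assoc]
        _ = Mi * (M * D) * Mi := by rw [hD]
        _ = (Mi * M) * D * Mi := by simp only [mul_assoc]
        _ = D * Mi := by rw [hMM', one_mul]
    set Λ := M + Mi with hΛ
    have hΛc : ∀ D : Matrix (Fin 6) (Fin 6) F, M * D = D * M → Λ * D = D * Λ := by
      intro D hD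
      rw [hΛ, add_mul, mul_add, hD, hcomm D hD]
    have hMN : M * N = N * M := by rw [hN, mul_sub, sub_mul, hgA', mul_one, one_mul]
    have hΛN : Λ * N = N * Λ := hΛc N hMN
    have hΛM : Λ * M = M * Λ := hΛc M rfl
    set X := Λ * N with hX
    have hXN : X * N = 0 := by rw [hX, mul_assoc, hNN, mul_zero]
    have hXX : X * X = 0 := by
      nth_rewrite 2 [hΛN]
      rw [← mul_assoc, hXN, zero_mul]
    have hMadj : ∀ u v, hermForm 6 F 2 (M *ᵥ u) v = hermForm 6 F 2 u (Mi *ᵥ v) := by
      intro u v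
      rw [← herm_gm A u (Mi *ᵥ v), Matrix.mulVec_mulVec, ← hM, hMM, Matrix.one_mulVec]
    have hMiadj : ∀ u v, hermForm 6 F 2 (Mi *ᵥ u) v = hermForm 6 F 2 u (M *ᵥ v) := by
      intro u v
      rw [← herm_gm A (Mi *ᵥ u) v, Matrix.mulVec_mulVec, ← hM, hMM, Matrix.one_mulVec]
    have hΛadj : ∀ u v, hermForm 6 F 2 (Λ *ᵥ u) v = hermForm 6 F 2 u (Λ *ᵥ v) := by
      intro u v
      rw [hΛ, Matrix.add_mulVec, Matrix.add_mulVec, herm_add_left, herm_add_right hF, hMadj, hMiadj, add_comm]
    have hgi : g⁻¹ = g := inv_eq_of_mul_eq_one_left hg2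
    have hNadj : ∀ u v, hermForm 6 F 2 (N *ᵥ u) v = hermForm 6 F 2 u (N *ᵥ v) := by
      intro u v
      rw [hN, Matrix.sub_mulVec, Matrix.sub_mulVec, Matrix.one_mulVec, Matrix.one_mulVec, herm_sub_left,
        herm_sub_right hF]
      have h1 := herm_act_left g u v
      rw [hgi, act_def, act_def] at h1
      rw [h1]
    have hXadj : ∀ u v, hermForm 6 F 2 (X *ᵥ u) v = hermForm 6 F 2 u (X *ᵥ v) := by
      intro u v
      rw [hX, ← Matrix.mulVec_mulVec, hΛadj, hNadj, Matrix.mulVec_mulVec, ← hΛN, ← hX]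
    have hTT : (1 + X) * (1 + X) = 1 := by
      have : (1 + X) * (1 + X) = 1 + 2 * X + X * X := by noncomm_ring
      rw [this, h2M, zero_mul, hXX, add_zero, add_zero]
    set T : SU 6 F 2 := mkSU (1 + X) (det_eq_one hTT) (isom_of_selfadj hF hXadj hXX) with hT
    have hTm : mat T = 1 + X := rfl
    have hXc : ∀ D : Matrix (Fin 6) (Fin 6) F, M * D = D * M → D * mat g = mat g * D → mat T * D = D * mat T := by
      intro D hD1 hD2
      have h1 : N * D = D * N := by rw [hN, sub_mul, mul_sub, hD2, mul_one, one_mul]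
      rw [hTm, add_mul, mul_add, one_mul, mul_one, hX, mul_assoc, h1, ← mul_assoc, hΛc D hD1, mul_assoc]
    have h1 := hg T (mat_injective (by rw [mat_mul, hTm, hTT, mat_one])) (by
      show M * mat T = mat T * M
      exact (hXc M rfl hgA').symm) (fun C hC hCg => mat_injective (by
      rw [mat_mul, mat_mul]
      exact hXc _ (P.comm_of_mem h hC) (by rw [← mat_mul, hCg, mat_mul])))
    have hcN : M * M * M * N = c • N := by rw [hc, smul_mul_assoc, one_mul]
    apply hc0
    rcases h1 with h1 | h1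
    · have h2 : X = 0 := by
        have h3 : mat T = 1 := by rw [h1, mat_one]
        rw [hTm] at h3
        exact add_eq_left.1 h3
      have h4 : M * M * N = N := by
        have h5 : M * X = M * M * N + N := by
          rw [hX, hΛ, add_mul, mul_add, ← mul_assoc, ← mul_assoc M Mi, hMM, one_mul]
        rw [h2, mul_zero] at h5
        have h6 : M * M * N = M * M * N + 2 * N := by rw [h2M, zero_mul, add_zero]
        rw [h6, two_mul, ← add_assoc, ← h5, zero_add]
      have h5 : M * N = c • N := by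
        rw [← hcN, mul_assoc (M * M), hMN, ← mul_assoc, h4]
      have h6 : (c * c) • N = N := by
        calc (c * c) • N = c • (c • N) := by rw [smul_smul]
          _ = M * (c • N) := by rw [mul_smul_comm, h5]
          _ = M * M * N := by rw [← h5, mul_assoc]
          _ = N := h4
      apply eq_one_of_sq
      have h7 : (c * c - 1) • N = 0 := by rw [sub_smul, one_smul, h6, sub_self]
      exact sub_eq_zero.1 ((smul_eq_zero.1 h7).resolve_right hN0)
    · have h2 : X = N := by
        have h3 : mat T = mat g := by rw [h1]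
        rw [hTm] at h3
        rw [hN, ← h3, add_sub_cancel_left]
      have h4 : M * N = M * M * N + N := by
        have h5 : M * X = M * M * N + N := by
          rw [hX, hΛ, add_mul, mul_add, ← mul_assoc, ← mul_assoc M Mi, hMM, one_mul]
        rw [h2] at h5
        exact h5
      have h5 : M * M * N = c • N + M * N := by
        have h6 := congrArg (fun Y => M * Y) h4
        simp only [mul_add] at h6
        rw [← mul_assoc, ← mul_assoc, ← mul_assoc, hcN] at h6
        exact h6
      have h6 : c • N = N := by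
        have h7 : M * N = c • N + M * N + N := by
          nth_rewrite 1 [h4]
          rw [h5]
        have h8 : c • N + N = 0 := by
          have h9 : M * N + (c • N + N) = M * N := by
            nth_rewrite 2 [h7]
            abel
          exact add_eq_left.1 h9
        have h9 : c • N = c • N + 2 * N := by rw [h2M, zero_mul, add_zero]
        rw [h9, two_mul, ← add_assoc, h8, zero_add]
      have h7 : (c - 1) • N = 0 := by rw [sub_smul, one_smul, h6, sub_self]
      exact sub_eq_zero.1 ((smul_eq_zero.1 h7).resolve_right hN0)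

/-- **`U₅(2)`** -/
theorem false_five (hF : Fintype.card F = 2 ^ 2) {φ : MulAut (PSU 5 F 2)} {L : Subgroup (PSU 5 F 2)}
    (h : Act _ φ L) : False := by
  have h1 := h.dvd_card
  have h2 := S0280.result hF 5 (by norm_num)
  have e : (∏ i ∈ Finset.range 5, (if Even i then 2 ^ (i + 1) + 1 else 2 ^ (i + 1) - 1)) = 3 * 3 * 9 * 15 * 33 := by
    decide
  rw [e] at h2
  have h3 : 7 ∣ Nat.gcd 5 (2 + 1) * ((2 + 1) * Nat.card (Cfsg.PSU 5 F 2)) :=
    Dvd.dvd.mul_left (Dvd.dvd.mul_left (dvd_trans (by norm_num) h1) _) _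
  rw [h2] at h3
  norm_num at h3

end Cfsg.Agent.H299.RowU6
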