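import Cfsg.Agent.H299.SpSixMore

/-!
# `Sp₆(2)` has 2-rank at least 3
-/

set_option autoImplicit false
set_option linter.unusedSectionVars false

namespace Cfsg.Agent.H299

open Subgroup Cfsg

namespace SpSix

local notation "K2" => ZMod 2
local notation "S6" => Matrix.symplecticGroup (Fin 3) (ZMod 2)

theorem exists_e8 : PRankAtLeast 2 3 S6 := by
  set x : Matrix.SpecialLinearGroup (Fin 2) K2 := Sigma.Symp.upper K2 (Multiplicative.ofAdd 1) with hx
  have hx2 : x ^ 2 = 1 := by
    rw [sq, hx, ← map_mul, ← ofAdd_add]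
    have : (1 : K2) + 1 = 0 := by decide
    rw [this, ofAdd_zero, map_one]
  have hx1 : x ≠ 1 := by
    intro h
    have h1 := congrArg (fun g : Matrix.SpecialLinearGroup (Fin 2) K2 => (g : Matrix (Fin 2) (Fin 2) K2) 0 1) h
    rw [hx] at h1
    have h2 : (1 : K2) = 0 := h1
    exact one_ne_zero h2
  have hox : orderOf x = 2 := orderOf_eq_prime hx2 hx1
  let f : (Fin 3 → ↥(zpowers x)) →* (Fin 3 → Matrix.SpecialLinearGroup (Fin 2) K2) :=
    { toFun := fun a i => (a i : Matrix.SpecialLinearGroup (Fin 2) K2)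
      map_one' := rfl
      map_mul' := fun _ _ => rfl }
  have hf : Function.Injective f := by
    intro a b h
    funext i
    exact Subtype.ext (congrFun h i)
  let g : (Fin 3 → ↥(zpowers x)) →* S6 := (Sigma.Symp.emb 3 K2).comp f
  have hg : Function.Injective g := (Sigma.Symp.emb_injective 3).comp hf
  have hz : ∀ a : ↥(zpowers x), a ^ 2 = 1 := by
    intro a
    obtain ⟨k, hk⟩ := mem_zpowers_iff.1 a.2
    apply Subtype.ext
    rw [Subgroup.coe_pow, ← hk, ← zpow_natCast, ← zpow_mul, mul_comm, zpow_mul, zpow_natCast, hx2, one_zpow]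
    rfl
  refine ⟨g.range, ⟨⟨?_⟩⟩, ?_, ?_⟩
  · rintro ⟨_, a, rfl⟩ ⟨_, b, rfl⟩
    apply Subtype.ext
    show g a * g b = g b * g a
    rw [← map_mul, ← map_mul]
    congr 1
    funext i
    exact (inferInstance : IsMulCommutative ↥(zpowers x)).is_comm.comm (a i) (b i)
  · rintro _ ⟨a, rfl⟩
    rw [← map_pow]
    have : a ^ 2 = 1 := by
      funext i
      exact hz (a i)
    rw [this, map_one]
  · rw [← Nat.card_congr (MonoidHom.ofInjective hg).toEquiv, Nat.card_fun, Nat.card_zpowers, hox]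
    simp

theorem rankAtLeast_of_injective {G H : Type*} [Group G] [Group H] {p k : ℕ} (f : H →* G) (hf : Function.Injective f)
    (h : PRankAtLeast p k H) : PRankAtLeast p k G := by
  obtain ⟨A, hA, hAp, hAc⟩ := h
  refine ⟨A.map f, ⟨⟨?_⟩⟩, ?_, ?_⟩
  · rintro ⟨_, a, ha, rfl⟩ ⟨_, b, hb, rfl⟩
    apply Subtype.ext
    show f a * f b = f b * f a
    rw [← map_mul, ← map_mul]
    congr 1
    exact congrArg Subtype.val (hA.is_comm.comm ⟨a, ha⟩ ⟨b, hb⟩)
  · rintro _ ⟨a, ha, rfl⟩
    rw [← map_pow, hAp a ha, map_one]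
  · rwa [Subgroup.card_map_of_injective hf]

theorem e8 {L : Type*} [Group L] {F : Type*} [Field F] [Fintype F] (hF : Fintype.card F = 2) (e : L ≃* PSp 3 F) :
    PRankAtLeast 2 3 L := by
  have e' : L ≃* S6 :=
    (e.trans (LieClassical.FieldTransfer.pspCongr 3 (ZMod.ringEquivOfPrime F Nat.prime_two hF).symm)).trans toSp
  exact rankAtLeast_of_injective e'.symm.toMonoidHom e'.symm.injective exists_e8

end SpSix

end Cfsg.Agent.H299
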