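import Cfsg.Agent.H299.Cons
import Cfsg.Agent.H299.Dead
import Cfsg.Agent.H299.Wide3
import Cfsg.Agent.H299.RowPSL
import Cfsg.Agent.H299.RowPSU
import Cfsg.Agent.H299.RowPSp
import Cfsg.Agent.H299.RowU6
import Cfsg.Agent.H299.RowExc
import Cfsg.Agent.BiChar.Final
import Cfsg.Agent.PreUniq.LowExc.TwF4Torus
import Cfsg.Agent.CpAut.SporThree.ON
import Cfsg.Agent.S2070
import Cfsg.Agent.S2083
import Cfsg.Agent.H299.SpSixE8
import Cfsg.Agent.ResEven.Base

/-!
# The table
-/

set_option autoImplicit false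
set_option linter.unusedSectionVars false

namespace Cfsg.Agent.H299

open Subgroup Cfsg Cfsg.Agent.SevenCases Cfsg.Agent.SigTab

universe u

/-- the inputs -/
structure Rows : Prop where
  f42 : ∀ {G : Type u} [Group G] [Finite G], IsCharacteristicTwoType G → ∀ {S : Subgroup G} [S.Normal],
    centralizer (S : Set G) = ⊥ → ∀ {F : Type} [Field F] [Fintype F], Fintype.card F = 2 →
      (↥S ≃* ↥(Lie.chevF4.group F)) → S = ⊤
  d4 : ∀ {G : Type u} [Group G] [Finite G], IsCharacteristicTwoType G → ∀ {S : Subgroup G} [S.Normal],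
    centralizer (S : Set G) = ⊥ → ∀ {F : Type} [Field F] [Fintype F] {f : ℕ}, Fintype.card F = 2 ^ f → Odd f →
      3 ∣ S.index → (∀ N : Subgroup G, N.Normal → N.index = 3 → False) → (↥S ≃* POmega F (quadFormPlus 4 F)) → False
  f4in : ∀ {F : Type} [Field F] [Fintype F] {f : ℕ}, Fintype.card F = 2 ^ f → Odd f → f ≠ 1 →
    ∀ {b : ↥(Lie.chevF4.group F)} {L : Subgroup ↥(Lie.chevF4.group F)}, In _ b L → False
  d4in : ∀ {F : Type} [Field F] [Fintype F] {f : ℕ}, Fintype.card F = 2 ^ f → Odd f → f ≠ 1 →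
    ∀ {b : POmega F (quadFormPlus 4 F)} {L : Subgroup (POmega F (quadFormPlus 4 F))}, In _ b L → False
  d42in : ∀ {F : Type} [Field F] [Fintype F], Fintype.card F = 2 →
    ∀ {b : POmega F (quadFormPlus 4 F)} {L : Subgroup (POmega F (quadFormPlus 4 F))}, In _ b L → False
  co2 : ∀ {S : Type u} [Group S], Spor.IsoCo2 S → ∀ {b : S} {L : Subgroup S}, In S b L → False
  th : ∀ {S : Type u} [Group S], Spor.IsoTh S → ∀ {b : S} {L : Subgroup S}, In S b L → False
  a12 : ∀ {S : Type u} [Group S] [Finite S], (S ≃* alternatingGroup (Fin 12)) → ¬ IsCharacteristicTwoType S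
  suz : ∀ {S : Type u} [Group S] [Finite S], Spor.IsoSuz S → ¬ IsCharacteristicTwoType S
  co3 : ∀ {S : Type u} [Group S] [Finite S], Spor.IsoCo3 S → ¬ IsCharacteristicTwoType S
  hn : ∀ {S : Type u} [Group S] [Finite S], Spor.IsoHN S → ¬ IsCharacteristicTwoType S

theorem In.rk4 {S : Type u} [Group S] {b : S} {L : Subgroup S} (h : In S b L) : PRankAtLeast 3 4 S := by
  obtain ⟨B, hB, hc, -⟩ := h.e81
  exact ⟨B, hB.1, hB.2, by norm_num; exact hc⟩

theorem In.kill {S : Type u} [Group S] {b : S} {L : Subgroup S} (h : In S b L) {P : ∀ (X : Type u) [Group X], Prop}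
    (hK : BiChar.Kill.{u} P) (hP : P S) : False := by
  have := h.fin
  exact h.ntl (hK S hP 3 Nat.prime_three (by norm_num) h.rk4)

theorem Act.wit {S : Type u} [Group S] {φ : MulAut S} {L : Subgroup S} (h : Act S φ L) (hw : ETable.Wit 3 4 S) : False :=
  hw.not_twoLocal (by norm_num) h.rank

/-- no 3-rank at most 2 -/
theorem Act.not_rank {S : Type u} [Group S] {φ : MulAut S} {L : Subgroup S} (h : Act S φ L) (hr : PRankLE 3 2 S) :
    False := by
  obtain ⟨A, hA, hc⟩ := h.facts.e27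
  have h1 := hr (A.map L.subtype) ⟨⟨?_⟩⟩ ?_
  · rw [Subgroup.card_map_of_injective L.subtype_injective, hc] at h1
    norm_num at h1
  · rintro ⟨_, a, ha, rfl⟩ ⟨_, c, hc, rfl⟩
    apply Subtype.ext
    show (a : S) * c = c * a
    exact congrArg (fun x : ↥A => ((x : L) : S)) (hA.1.is_comm.comm ⟨a, ha⟩ ⟨c, hc⟩)
  · rintro _ ⟨a, ha, rfl⟩
    exact congrArg Subtype.val (hA.2 a ha)

/-- the situation -/
structure Sit (G : Type u) [Group G] [Finite G] (b : G) (L S : Subgroup G) : Prop where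
  hyp : Red.Hyp G b L
  res : Red.Res G b L S
  facts2 : Facts2 ↥L
  hN : ∀ N : Subgroup G, N.Normal → N.index = 3 → False

/-- the conclusion -/
def Concl (G : Type u) [Group G] : Prop :=
  ∃ (K : Type) (_ : Field K) (_ : Fintype K), Fintype.card K = 2 ∧
    (Nonempty (G ≃* PSp 4 K) ∨ Nonempty (G ≃* ↥(Lie.chevF4.group K)))

/-- the homomorphism to the automorphism group -/
noncomputable def psi {G : Type u} [Group G] {S : Subgroup G} [S.Normal] {X : Type} [Group X] (e : ↥S ≃* X) :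
    G →* MulAut X :=
  (MulAut.congr e).toMonoidHom.comp (MulAut.conjNormal : G →* MulAut ↥S)

theorem psi_apply {G : Type u} [Group G] {S : Subgroup G} [S.Normal] {X : Type} [Group X] (e : ↥S ≃* X) (g : G) (x : X) :
    psi e g x = e (MulAut.conjNormal g (e.symm x)) := rfl

/-- elements of `G` inducing inner automorphisms are in `S` -/
theorem mem_of_conj {G : Type u} [Group G] {S : Subgroup G} [S.Normal] (hc : centralizer (S : Set G) = ⊥) {X : Type}
    [Group X] (e : ↥S ≃* X) {g : G} {x : X} (hx : psi e g = MulAut.conj x) : g ∈ S := by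
  obtain ⟨s, rfl⟩ := e.surjective x
  have key : g * (s : G)⁻¹ ∈ centralizer (S : Set G) := by
    rw [mem_centralizer_iff]
    intro y hy
    have h1 := congrArg (fun f : MulAut X => e.symm (f (e ⟨(s : G)⁻¹ * y * s, by
      have := (inferInstance : S.Normal).conj_mem y hy (s : G)⁻¹
      rwa [inv_inv] at this⟩))) hx
    simp only [psi_apply, e.symm_apply_apply, MulAut.conj_apply] at h1
    rw [← map_mul, ← map_inv, ← map_mul, e.symm_apply_apply] at h1
    have h2 := congrArg (fun z : ↥S => (z : G)) h1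
    simp only [MulAut.conjNormal_apply, Subgroup.coe_mul, Subgroup.coe_inv] at h2
    have h3 : g * ((s : G)⁻¹ * y * s) * g⁻¹ = y := by rw [h2]; group
    calc y * (g * (s : G)⁻¹) = g * ((s : G)⁻¹ * y * s) * g⁻¹ * (g * (s : G)⁻¹) := by rw [h3]
      _ = g * (s : G)⁻¹ * y := by group
  rw [hc, mem_bot, mul_inv_eq_one] at key
  rw [key]
  exact s.2

theorem eq_top {G : Type u} [Group G] {S : Subgroup G} [S.Normal] (hc : centralizer (S : Set G) = ⊥) {X : Type}
    [Group X] (e : ↥S ≃* X) (h : ∀ α : MulAut X, ∃ x : X, α = MulAut.conj x) : S = ⊤ := by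
  rw [eq_top_iff]
  intro g _
  obtain ⟨x, hx⟩ := h (psi e g)
  exact mem_of_conj hc e hx

theorem inner_of_card {X : Type} [Group X] [Finite X] (hZ : Subgroup.center X = ⊥)
    (h : Nat.card (MulAut X) = Nat.card X) (α : MulAut X) : ∃ x : X, α = MulAut.conj x := by
  have hinj : Function.Injective (MulAut.conj : X →* MulAut X) := by
    rw [injective_iff_map_eq_one]
    intro a ha
    have : a ∈ Subgroup.center X := by
      rw [Subgroup.mem_center_iff]
      intro b
      have h2 := congrArg (fun f : MulAut X => f b) ha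
      simp only [MulAut.conj_apply, MulAut.one_apply] at h2
      exact (mul_inv_eq_iff_eq_mul.1 h2).symm
    rwa [hZ, Subgroup.mem_bot] at this
  have hfA : Finite (MulAut X) := Finite.of_injective (fun f : MulAut X => (f : X → X))
    fun f g h => MulEquiv.ext fun x => congrFun h x
  have hb : Function.Bijective (MulAut.conj : X →* MulAut X) :=
    (Nat.bijective_iff_injective_and_card _).2 ⟨hinj, h.symm⟩
  obtain ⟨x, hx⟩ := hb.2 α
  exact ⟨x, hx.symm⟩

theorem inner_of_out {X : Type} [Group X] (h : Nat.card (Cfsg.Out X) = 1) (α : MulAut X) : ∃ x : X, α = MulAut.conj x := by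
  have h1 : Subsingleton (Cfsg.Out X) := (Nat.card_eq_one_iff_unique.1 h).1
  have h2 : (QuotientGroup.mk' (Cfsg.Inn X)) α = 1 := Subsingleton.elim _ _
  obtain ⟨x, hx⟩ := (QuotientGroup.eq_one_iff α).1 h2
  exact ⟨x, hx.symm⟩

theorem Act.center {S : Type u} [Group S] {φ : MulAut S} {L : Subgroup S} (h : Act S φ L) :
    Subgroup.center S = ⊥ := by
  have := h.simple
  refine (Subgroup.center S).normal_of_characteristic.eq_bot_or_eq_top.resolve_right fun h' => ?_
  refine h.facts.na ⟨⟨fun x y => Subtype.ext ?_⟩⟩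
  have : (x : S) ∈ Subgroup.center S := by rw [h']; exact mem_top _
  exact ((mem_center_iff.1 this) y).symm

namespace Sit

variable {G : Type u} [Group G] [Finite G] {b : G} {L S : Subgroup G}

theorem act [S.Normal] (h : Sit G b L S) : Act ↥S (MulAut.conjNormal b) (L.subgroupOf S) :=
  Act.of h.hyp h.res h.facts2

theorem actX [S.Normal] (h : Sit G b L S) {X : Type} [Group X] (e : ↥S ≃* X) :
    Act X (psi e b) ((L.subgroupOf S).map e.toMonoidHom) := h.act.congr e

theorem b3 (h : Sit G b L S) : b ^ 3 = 1 := by rw [← h.hyp.hb, pow_orderOf_eq_one]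

theorem mem [S.Normal] (h : Sit G b L S) {X : Type} [Group X] (e : ↥S ≃* X) {N : Subgroup (MulAut X)}
    (hN : AbQ.AbK X N) : psi e b ∈ N := hN.mem h.hN (psi e) h.b3

/-- if all automorphisms in question are inner -/
theorem inX [S.Normal] (h : Sit G b L S) {X : Type} [Group X] (e : ↥S ≃* X)
    (hi : psi e b ∈ (MulAut.conj : X →* MulAut X).range) :
    ∃ x : X, In X x ((L.subgroupOf S).map e.toMonoidHom) := by
  obtain ⟨x, hx⟩ := hi
  exact ⟨x, (h.actX e).inn hx.symm⟩

/-- `S` has an automorphism group which is abelian modulo inner automorphisms: `b ∈ S` -/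
theorem inX' [S.Normal] (h : Sit G b L S) {X : Type} [Group X] (e : ↥S ≃* X)
    (hN : AbQ.AbK X (MulAut.conj : X →* MulAut X).range) :
    ∃ x : X, In X x ((L.subgroupOf S).map e.toMonoidHom) := h.inX e (h.mem e hN)

/-- the case `b ∉ S` -/
theorem index [S.Normal] (h : Sit G b L S) (hb : b ∉ S) : 3 ∣ S.index := by
  have h1 : orderOf (QuotientGroup.mk' S b) = 3 := by
    have : Fact (Nat.Prime 3) := ⟨Nat.prime_three⟩
    refine orderOf_eq_prime (by rw [← map_pow, h.b3, map_one]) fun h1 => hb ?_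
    exact (QuotientGroup.eq_one_iff b).1 h1
  rw [← h1]
  exact orderOf_dvd_natCard _

/-- the case `b ∈ S` -/
theorem inS [S.Normal] (h : Sit G b L S) (hb : b ∈ S) : In ↥S ⟨b, hb⟩ (L.subgroupOf S) := by
  refine h.act.inn ?_
  ext s
  rw [MulAut.conjNormal_apply]
  rfl

theorem inS' [S.Normal] (h : Sit G b L S) (hb : b ∈ S) {X : Type} [Group X] (e : ↥S ≃* X) :
    In X (e ⟨b, hb⟩) ((L.subgroupOf S).map e.toMonoidHom) := by
  refine (h.actX e).inn ?_
  ext x
  obtain ⟨s, rfl⟩ := e.surjective x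
  rw [psi_apply, e.symm_apply_apply, MulAut.conj_apply, ← map_inv, ← map_mul, ← map_mul]
  congr 1

section psl

variable {F : Type} [Field F] [Fintype F] [CharP F 2] {n : ℕ}

theorem three_ne : (3 : F) ≠ 0 := by
  intro h
  have h2 : (2 : F) = 0 := CharTwo.two_eq_zero
  have : (1 : F) = 0 := by linear_combination h - h2
  exact one_ne_zero this

theorem psl [S.Normal] (h : Sit G b L S) (hn : 2 ≤ n) (e : ↥S ≃* Matrix.ProjectiveSpecialLinearGroup (Fin n) F) :
    False := by
  have hA := h.actX e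
  by_cases h2 : n = 2
  · subst h2
    refine hA.not_rank fun A hA hAp => (CpAutG.rank_psl_two (F := F) three_ne A hA hAp).trans ?_
    norm_num
  have hp : Fact (Nat.Prime 2) := ⟨Nat.prime_two⟩
  have h3 := h.mem e (RowPSL.abK (F := F) 2 (n := n) (by omega))
  have hF := RowPSL.card_two hA h3
  by_cases h8 : 8 ≤ n
  · exact hA.wit (Wide3.psl hF h8)
  obtain ⟨x, hx⟩ := RowPSL.inner_of_two hF h3
  have hI := hA.inn hx
  by_cases h4 : n ≤ 4
  · exact hI.kill BiChar.killLie.psl ⟨F, inferInstance, inferInstance, inferInstance, n, ⟨hn, h4⟩, ⟨MulEquiv.refl _⟩⟩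
  · exact hI.kill BiChar.killLie.psl2 ⟨F, inferInstance, inferInstance, inferInstance, n,
      ⟨by omega, by omega, hF⟩, ⟨MulEquiv.refl _⟩⟩

end psl

section psp

variable {F : Type} [Field F] [Fintype F] [CharP F 2] {m : ℕ}

theorem psp [S.Normal] (h : Sit G b L S) (hm : 2 ≤ m) (e : ↥S ≃* PSp m F) : Concl G := by
  have hA := h.actX e
  have hev := BiChar.SigTool.even_card (F := F)
  by_cases h2 : m = 2
  · subst h2
    exact (hA.not_rank (SigZeroU5.rank_psp hev (by norm_num) Nat.prime_three (by norm_num))).elim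
  have h3 := h.mem e (RowPSp.abK (F := F) (m := m) (by omega))
  have hF := RowPSp.card_two (by omega) hA h3
  obtain ⟨x, hx⟩ := h.inX e h3
  by_cases h5 : 5 ≤ m
  · exact (hA.wit (Wide3.psp h5)).elim
  by_cases h4 : m = 3
  · exact (hx.kill BiChar.killLie.psp ⟨F, inferInstance, inferInstance, inferInstance, m, ⟨hm, by omega⟩,
      ⟨MulEquiv.refl _⟩⟩).elim
  have h4 : m = 4 := by omega
  subst h4
  have hS := hA.simple
  have htop : S = ⊤ := by
    have hp : Fact (Nat.Prime 2) := ⟨Nat.prime_two⟩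
    have h1 := S0814.result (F := F) 2 1 le_rfl (by rw [hF, pow_one]) 4 (by norm_num) (by norm_num)
    norm_num at h1
    have := hA.fin
    exact eq_top h.res.cent e (inner_of_card hA.center h1)
  subst htop
  exact ⟨F, inferInstance, inferInstance, hF, Or.inl ⟨Subgroup.topEquiv.symm.trans e⟩⟩

end psp

section psu

variable {F : Type} [Field F] [Fintype F] [CharP F 2] {n q : ℕ}

theorem psu [S.Normal] (h : Sit G b L S) (hF : Fintype.card F = q ^ 2) (hn : 3 ≤ n) (h32 : ¬ (n = 3 ∧ q = 2))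
    (e : ↥S ≃* PSU n F q) : False := by
  have hA := h.actX e
  have h3 := h.mem e (RowPSU.abK (K := F) (q := q) (n := n) hF hn h32)
  have hq := RowPSU.q_eq_two hF hn hA h3
  subst hq
  by_cases h7 : 7 ≤ n
  · exact hA.wit (Wide3.psu hF h7)
  by_cases h6 : n = 6
  · subst h6
    exact RowU6.false_six hF hA h3
  by_cases h5 : n = 5
  · subst h5
    exact RowU6.false_five hF hA
  have h4 : n = 4 := by
    by_contra h4
    exact h32 ⟨by omega, rfl⟩
  subst h4
  have h8 := S0280.result hF 4 (by norm_num)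
  simp [Finset.prod_range_succ] at h8
  norm_num at h8
  refine Dead.of_card hA (n := 25920) ?_ (by norm_num)
  omega

end psu

section omega

variable {F : Type} [Field F] [Fintype F] [CharP F 2] {m : ℕ}

theorem three_dvd {f : ℕ} (hf : Even f) : 3 ∣ 2 ^ f - 1 := by
  obtain ⟨k, rfl⟩ := hf
  rw [← two_mul, pow_mul]
  have : (2 ^ 2 - 1) ∣ (2 ^ 2) ^ k - 1 := by
    have := Nat.sub_dvd_pow_sub_pow (2 ^ 2) 1 k
    rwa [one_pow] at this
  exact this

theorem omegaPlus [S.Normal] (R : Rows.{u}) (h : Sit G b L S) (hm : 4 ≤ m) (e : ↥S ≃* POmega F (quadFormPlus m F)) :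
    False := by
  have hA := h.actX e
  by_cases h5 : 5 ≤ m
  · exact hA.wit (Wide3.plus h5)
  have h4 : m = 4 := by omega
  subst h4
  obtain ⟨f, hf1, hf⟩ := BiChar.card_eq_two_pow F
  rcases Nat.even_or_odd f with he | ho
  · exact hA.wit (Wide3.plus_four le_rfl (by rw [hf]; exact three_dvd he))
  by_cases hb : b ∈ S
  · have hI := h.inS' hb e
    by_cases h1 : f = 1
    · rw [h1, pow_one] at hf
      exact R.d42in hf hI
    · exact R.d4in hf ho h1 hI
  · exact R.d4 h.hyp.char2 h.res.cent hf ho (h.index hb) h.hN e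

theorem omegaMinus [S.Normal] (h : Sit G b L S) (hm : 4 ≤ m) (x y : F)
    (hab : ∀ z₁ z₂ : F, z₁ ^ 2 + x * z₁ * z₂ + y * z₂ ^ 2 = 0 → z₁ = 0 ∧ z₂ = 0)
    (e : ↥S ≃* POmega F (quadFormMinus (m - 1) F x y)) : False := by
  have hA := h.actX e
  by_cases h5 : 5 ≤ m
  · exact hA.wit (Wide3.minus (m := m - 1) (by omega) x y hab)
  have h4 : m = 4 := by omega
  subst h4
  obtain ⟨f, hf1, hf⟩ := BiChar.card_eq_two_pow F
  obtain ⟨z, hz⟩ := h.inX' e (RowExc.abK_om hf1 hf le_rfl x y hab)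
  exact hz.kill BiChar.killLie.omegaMinus ⟨F, inferInstance, inferInstance, inferInstance, 4, x, y, rfl, hab,
    ⟨MulEquiv.refl _⟩⟩

end omega

section exc

variable {F : Type} [Field F] [Fintype F] [CharP F 2]

theorem g2 [S.Normal] (h : Sit G b L S) (hF : 3 ≤ Fintype.card F) (e : ↥S ≃* ↥(Lie.chevG2.group F)) : False := by
  obtain ⟨z, hz⟩ := h.inX' e (RowExc.abK_g2 hF)
  exact hz.kill BiChar.killLie.g2 ⟨F, inferInstance, inferInstance, inferInstance, (by
    rcases BiChar.card_two_or F with h2 | h2 <;> omega), ⟨MulEquiv.refl _⟩⟩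

theorem f4 [S.Normal] (R : Rows.{u}) (h : Sit G b L S) (e : ↥S ≃* ↥(Lie.chevF4.group F)) : Concl G := by
  have hA := h.actX e
  obtain ⟨f, hf1, hf⟩ := BiChar.card_eq_two_pow F
  have h2 : (2 : F) = 0 := CharTwo.two_eq_zero
  rcases Nat.even_or_odd f with he | ho
  · exfalso
    obtain ⟨c, hc, hc1⟩ := ETable.Exc.exists_unit_of_dvd F Nat.prime_three (by
      rw [Nat.card_eq_fintype_card, hf]
      exact three_dvd he)
    exact hA.wit (Wide3.f4 F h2 hc hc1)
  by_cases h1 : f = 1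
  · rw [h1, pow_one] at hf
    have htop := R.f42 h.hyp.char2 h.res.cent hf e
    subst htop
    exact ⟨F, inferInstance, inferInstance, hf, Or.inr ⟨Subgroup.topEquiv.symm.trans e⟩⟩
  · exfalso
    obtain ⟨z, hz⟩ := h.inX' e RowExc.abK_f4
    exact R.f4in hf ho h1 hz

theorem e6 [S.Normal] (h : Sit G b L S) (e : ↥S ≃* ↥(Lie.chevE6.group F)) : False :=
  (h.actX e).wit (ETable.Exc.e6_three_four F CharTwo.two_eq_zero)

theorem e7 [S.Normal] (h : Sit G b L S) (e : ↥S ≃* ↥(Lie.chevE7.group F)) : False :=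
  (h.actX e).wit (ETable.Exc.e7_three_four F CharTwo.two_eq_zero)

theorem e8 [S.Normal] (h : Sit G b L S) (e : ↥S ≃* ↥(Lie.chevE8.group F)) : False :=
  (h.actX e).wit (ETable.Exc.e8_three_four F CharTwo.two_eq_zero)

theorem twE6 [S.Normal] (h : Sit G b L S) {q : ℕ} (hq : IsPrimePow q) (hF : Fintype.card F = q ^ 2)
    (e : ↥S ≃* ↥(Lie.twistedE6 F q)) : False :=
  (h.actX e).wit (Wide3.twE6 F q hq CharTwo.two_eq_zero (by rw [Nat.card_eq_fintype_card]; exact hF))

theorem twD4 [S.Normal] (h : Sit G b L S) {q : ℕ} (hq : IsPrimePow q) (hF : Fintype.card F = q ^ 3)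
    (e : ↥S ≃* ↥(Lie.twistedD4 F q)) : False := by
  obtain ⟨z, hz⟩ := h.inX' e (RowExc.abK_d4 hq hF)
  exact hz.kill BiChar.killLie.d4 ⟨F, inferInstance, inferInstance, inferInstance, q, hq, hF, ⟨MulEquiv.refl _⟩⟩

end exc

theorem suzuki [S.Normal] (h : Sit G b L S) (h' : Lie.IsoSuzuki ↥S) : False := by
  refine h.act.not_rank fun A hA hAp => (OddRank.SzTits.suzuki h' Nat.prime_three (by norm_num) A hA hAp).trans ?_
  norm_num

theorem twF4 [S.Normal] (h : Sit G b L S) (h' : Lie.Iso2F4 ↥S) : False := by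
  obtain ⟨K, _, _, m, hm, hK, ⟨e⟩⟩ := h'
  have hA := h.actX e
  obtain ⟨t, ht1, ht2, A, hA1, hA2, hA3⟩ := hA.facts2.e9
  have hinj := Subgroup.subtype_injective ((L.subgroupOf S).map e.toMonoidHom)
  refine PreUniq.LowExc.TwF4.not_pair_twistedF4 hm hK Nat.prime_three (by norm_num) ?_
    (E := A.map (Subgroup.subtype _)) (RedLocal.isElem_map _ hA1)
    (by rw [Subgroup.card_map_of_injective hinj, hA2]; norm_num) (t := (t : ↥(Lie.twistedF4 K (2 ^ m))))
    (congrArg Subtype.val ht2) (fun h => ht1 (Subtype.ext h)) ?_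
  · rw [Nat.card_eq_fintype_card, hK]
    have h1 : 2 ^ (2 * m + 1) % 3 = 2 := by
      rw [pow_succ, pow_mul, Nat.mul_mod, Nat.pow_mod]
      norm_num
    omega
  · rintro _ ⟨a, ha, rfl⟩
    exact congrArg Subtype.val (hA3 a ha)

/-- the groups of Lie type in characteristic 2 -/
theorem even_case [S.Normal] (R : Rows.{u}) (h : Sit G b L S) (hL : IsLieTypeChar 2 ↥S) : Concl G := by
  rcases hL with ⟨F, iF, iT, hc, n, hn, -, ⟨e⟩⟩ | ⟨F, iF, iT, hc, m, hm, -, ⟨e⟩⟩ |
    ⟨F, iF, iT, hc, n, q, hq, hn, h32, ⟨e⟩⟩ | ⟨F, iF, iT, hc, m, hm, hodd, he⟩ | ⟨F, iF, iT, hc, m, hm, ⟨e⟩⟩ |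
    ⟨F, iF, iT, hc, m, x, y, hm, hab, ⟨e⟩⟩ | ⟨F, iF, iT, hc, he⟩ | ⟨K, iF, iT, hc, q, hq, he⟩ | ⟨-, he⟩ | ⟨-, he⟩ | ⟨h3, -⟩
  · exact (h.psl hn e).elim
  · exact h.psp hm e
  · exact (h.psu hq hn h32 e).elim
  · exfalso
    obtain ⟨k, hk1, hk⟩ := BiChar.card_eq_two_pow F
    rw [hk] at hodd
    exact (Nat.not_even_iff_odd.2 hodd) ((Nat.even_pow.2 ⟨even_two, by omega⟩))
  · exact (h.omegaPlus R hm e).elim
  · exact (h.omegaMinus hm x y hab e).elim
  · rcases he with ⟨h3, ⟨e⟩⟩ | ⟨⟨e⟩⟩ | ⟨⟨e⟩⟩ | ⟨⟨e⟩⟩ | ⟨⟨e⟩⟩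
    · exact (h.g2 h3 e).elim
    · exact h.f4 R e
    · exact (h.e6 e).elim
    · exact (h.e7 e).elim
    · exact (h.e8 e).elim
  · rcases he with ⟨h2, ⟨e⟩⟩ | ⟨h2, ⟨e⟩⟩
    · exact (h.twE6 hq h2 e).elim
    · exact (h.twD4 hq h2 e).elim
  · exact (h.suzuki he).elim
  · exact (h.twF4 he).elim
  · exact absurd h3 (by norm_num)

/-- **the table** -/
theorem main [S.Normal] (R : Rows.{u}) (h : Sit G b L S) (hL : RestList ↥S) : Concl G := by
  have hA := h.act
  have hs := hA.simple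
  rcases hL with h' | h' | h' | h' | h' | h' | h' | h' | h' | h'
  · rcases h' with h' | ⟨-, h'⟩ | ⟨h2, -⟩
    · exact h.even_case R h'
    · rcases h' with ⟨⟨e⟩⟩ | h' | h'
      · exact (Dead.alt_six hA e).elim
      · exact (Dead.u33 hA h').elim
      · exact (Dead.tits hA h').elim
    · exact absurd h2 (by norm_num)
  · obtain ⟨n, rfl, ⟨e⟩⟩ := h'
    exact (Dead.alt_eight hA e).elim
  · obtain ⟨n, rfl, ⟨e⟩⟩ := h'
    exact (R.a12 e hA.char2).elim
  · exact (Dead.l43 hA h').elim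
  · exact (Dead.u43 hA h').elim
  · exact (Dead.g23 hA h').elim
  · exact (Dead.o73 hA h').elim
  · exact (Dead.o8p3 hA h').elim
  · exact (Dead.o8m3 hA h').elim
  · rcases h' with h' | h' | h' | h' | h' | h' | h' | h' | h' | h' | h' | h' | h' | h' | h' | h' | h' | h' | h' | h'
    · exact (Dead.m22 hA h').elim
    · exact (Dead.m23 hA h').elim
    · exact (Dead.m24 hA h').elim
    · exact (Dead.j2 hA h').elim
    · exact (Dead.j3 hA h').elim
    · exact (Dead.j4 hA h').elim
    · exact (Dead.hs hA h').elim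
    · exact (Dead.he hA h').elim
    · exact (Dead.ru hA h').elim
    · exact (R.suz h' hA.char2).elim
    · exact (Dead.co1 hA h').elim
    · obtain ⟨e⟩ := id h'
      obtain ⟨x, hx⟩ := inner_of_out S2070.result (psi e b)
      exact (R.co2 h' (h.inS (mem_of_conj h.res.cent e hx))).elim
    · exact (R.co3 h' hA.char2).elim
    · exact (Dead.fi22 hA h').elim
    · exact (Dead.fi23 hA h').elim
    · exact (Dead.fi24 hA h').elim
    · exact (R.hn h' hA.char2).elim
    · obtain ⟨e⟩ := id h'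
      obtain ⟨x, hx⟩ := inner_of_out S2083.result (psi e b)
      exact (R.th h' (h.inS (mem_of_conj h.res.cent e hx))).elim
    · exact (Dead.b hA h').elim
    · exact (Dead.m hA h').elim

end Sit

/-- **the theorem from the table** -/
theorem final (R : Rows.{u}) (hkn : ∀ (X : Type u) [Group X] [Finite X] [IsSimpleGroup X], IsKnownSimple' X)
    (hSch : ∀ (X : Type u) [Group X] [Finite X] [IsSimpleGroup X], Schreier.Basic.Sch X)
    (on : BTwo.{u} (fun X _ => Spor.IsoON X)) {G : Type u} [Group G] [Finite G] {b : G} {L : Subgroup G}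
    (h : Red.Hyp G b L) (h2 : Facts2 ↥L) (h8 : PRankAtLeast 2 3 ↥L)
    (hN : ∀ N : Subgroup G, N.Normal → N.index = 3 → False) : Concl G := by
  obtain ⟨S, hS⟩ := Red.main hSch h
  have hn := hS.nrm
  have hs := hS.simple
  have hsit : Sit G b L S := ⟨h, hS, h2, hN⟩
  have hA := hsit.act
  have hna : ¬ IsMulCommutative ↥S := by
    intro hc
    refine hA.facts.na ⟨⟨fun x y => Subtype.ext ?_⟩⟩
    exact hc.is_comm.comm (x : ↥S) y
  have h3 : PRankAtLeast 2 3 ↥S := by
    have e : ↥(L.subgroupOf S) ≃* ↥L := subgroupOfEquivOfLe hS.le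
    exact SpSix.rankAtLeast_of_injective (L.subgroupOf S).subtype (Subgroup.subtype_injective _)
      (SpSix.rankAtLeast_of_injective e.symm.toMonoidHom e.symm.injective h8)
  exact hsit.main R (restList (OddTab.Rows.genRows hkn) OddTab.Rows.bRows NotResT.Inst.bNotC
    (NotResT.All.notResMore_of on) (hkn _) hna (ResEven.Base.restricted_of_charTwo hA.char2 h3))

end Cfsg.Agent.H299
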