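import Cfsg.Agent.H299.FactsCongr
import Cfsg.Agent.BabyComp.Sec
import Cfsg.Agent.H12.CompQ
import Cfsg.Agent.EvenType.CharTwoCent
import Cfsg.Agent.Lib.KleinGen
import Cfsg.Agent.Lib.GenFitting
import Cfsg.Agent.Lib.Cores
import Cfsg.Agent.OddHalf.Small.Generic

/-!
# The reduction to a simple group

`Hyp G b L` : the hypotheses; `Out` : the conclusion of the reduction.
-/

set_option autoImplicit false
set_option linter.unusedSectionVars false

namespace Cfsg.Agent.H299.Red

open Subgroup Cfsg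

universe u

/-- the hypotheses -/
structure Hyp (G : Type u) [Group G] [Finite G] (b : G) (L : Subgroup G) : Prop where
  char2 : IsCharacteristicTwoType G
  hb : orderOf b = 3
  le : L ≤ centralizer ({b} : Set G)
  nrm : (L.subgroupOf (centralizer ({b} : Set G))).Normal
  facts : Facts ↥L
  cyc : ∀ R : Sylow 3 ↥(centralizer (L : Set G)), IsCyclic ↥(R : Subgroup ↥(centralizer (L : Set G)))
  rk : ∀ k : ℕ, TwoLocalPRankLE 3 k G ↔ TwoLocalPRankLE 3 k ↥(centralizer ({b} : Set G))
  a5 : ∀ B : Subgroup ↥(centralizer ({b} : Set G)), IsElementaryAbelian 3 B →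
    (∃ H : Subgroup ↥(centralizer ({b} : Set G)), IsTwoLocal H ∧ B ≤ H) →
      (∀ B' : Subgroup ↥(centralizer ({b} : Set G)), IsElementaryAbelian 3 B' →
        (∃ H : Subgroup ↥(centralizer ({b} : Set G)), IsTwoLocal H ∧ B' ≤ H) → Nat.card ↥B' ≤ Nat.card ↥B) →
      ∃ Q : Subgroup ↥(centralizer ({b} : Set G)), IsPGroup 2 ↥Q ∧
        B ≤ normalizer (Q : Set ↥(centralizer ({b} : Set G))) ∧ ⁅Q, B⁆ ≠ ⊥

variable {G : Type u} [Group G] [Finite G] {b : G} {L : Subgroup G}

/-- elementary abelian 3-subgroups of `C(L)` have order at most 3 -/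
theorem card_le_three (h : Hyp G b L) {A : Subgroup G} (hA : A ≤ centralizer (L : Set G)) (hAe : IsElementaryAbelian 3 A) :
    Nat.card A ≤ 3 := by
  have : Fact (Nat.Prime 3) := ⟨Nat.prime_three⟩
  set A' : Subgroup ↥(centralizer (L : Set G)) := A.subgroupOf _ with hA'
  have hc : Nat.card A' = Nat.card A := Nat.card_congr (subgroupOfEquivOfLe hA).toEquiv
  have hp : IsPGroup 3 A' := fun g => ⟨1, Subtype.ext (Subtype.ext (by
    rw [pow_one]
    exact hAe.2 g.1.1 g.2))⟩
  obtain ⟨R, hR⟩ := hp.exists_le_sylow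
  have hcy := h.cyc R
  have h1 : IsCyclic A' := isCyclic_of_injective (Subgroup.inclusion hR) (Subgroup.inclusion_injective hR)
  obtain ⟨g, hg⟩ := h1.exists_generator
  have h2 : Nat.card A' = orderOf g := by
    rw [← Nat.card_zpowers]
    have : zpowers g = ⊤ := by
      rw [eq_top_iff]
      intro x _
      exact hg x
    rw [this, Nat.card_congr Subgroup.topEquiv.toEquiv]
  have h3 : g ^ 3 = 1 := Subtype.ext (Subtype.ext (hAe.2 g.1.1 g.2))
  rw [← hc, h2]
  exact Nat.le_of_dvd (by norm_num) (orderOf_dvd_of_pow_eq_one h3)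

/-- the subgroup `N` -/
theorem nn_le_three (h : Hyp G b L) (A : Subgroup ↥(centralizer ({b} : Set G)))
    (hA : A ≤ centralizer ((L.subgroupOf (centralizer ({b} : Set G)) : Subgroup ↥(centralizer ({b} : Set G))) : Set _))
    (hAe : IsElementaryAbelian 3 A) : Nat.card A ≤ 3 := by
  rw [← Subgroup.card_map_of_injective (Subgroup.subtype_injective (centralizer ({b} : Set G)))]
  refine card_le_three h ?_ (RedLocal.isElem_map _ hAe)
  rintro _ ⟨a, ha, rfl⟩
  rw [mem_centralizer_iff]
  intro l hl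
  have := mem_centralizer_iff.1 (hA ha) ⟨l, h.le hl⟩ hl
  exact congrArg Subtype.val this

theorem facts' (h : Hyp G b L) : Facts ↥(L.subgroupOf (centralizer ({b} : Set G))) :=
  h.facts.congr (subgroupOfEquivOfLe h.le)

theorem central {β : G} (x : ↥(centralizer ({β} : Set G))) :
    (⟨β, mem_centralizer_singleton_iff.2 rfl⟩ : ↥(centralizer ({β} : Set G))) * x = x * ⟨β, mem_centralizer_singleton_iff.2 rfl⟩ :=
  Subtype.ext (mem_centralizer_singleton_iff.1 x.2).symm

theorem odd_cent (h : Hyp G b L) : Odd (Nat.card ↥(centralizer ((L.subgroupOf (centralizer ({b} : Set G)) :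
    Subgroup ↥(centralizer ({b} : Set G))) : Set ↥(centralizer ({b} : Set G))))) := by
  have := h.nrm
  refine RedLocal.odd_card (L.subgroupOf (centralizer ({b} : Set G))) (facts' h) (nn_le_three h)
    (β := ⟨b, mem_centralizer_singleton_iff.2 rfl⟩) ?_ central h.a5
  rw [Subgroup.orderOf_mk]
  exact h.hb

/-- **`m_{2,3}(G) ≤ 3`** -/
theorem rank (h : Hyp G b L) : TwoLocalPRankLE 3 3 G := by
  rw [h.rk]
  have := h.nrm
  exact RedLocal.twoLocal _ (facts' h) (nn_le_three h) (odd_cent h)

/-- the subgroup of order 81 -/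
theorem exists_e81 (h : Hyp G b L) : ∃ B : Subgroup G, IsElementaryAbelian 3 B ∧ 81 ≤ Nat.card B ∧ b ∈ B ∧
    B ≤ centralizer ({b} : Set G) := by
  have := h.nrm
  obtain ⟨A, -, -, B, hB, hBc, hBd⟩ := RedLocal.exists_e81 (L.subgroupOf (centralizer ({b} : Set G))) (facts' h)
    (β := ⟨b, mem_centralizer_singleton_iff.2 rfl⟩) (by rw [Subgroup.orderOf_mk]; exact h.hb) central
  refine ⟨B.map (centralizer ({b} : Set G)).subtype, RedLocal.isElem_map _ hB, ?_, ?_, map_subtype_le _⟩
  · rw [Subgroup.card_map_of_injective (Subgroup.subtype_injective _)]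
    exact hBc
  · refine ⟨⟨b, mem_centralizer_singleton_iff.2 rfl⟩, ?_, rfl⟩
    rw [hBd]
    exact mem_sup_right (mem_zpowers _)

theorem two_core (h : Hyp G b L) : pCore 2 G = ⊥ := by
  by_contra hne
  have : Fact (Nat.Prime 2) := ⟨Nat.prime_two⟩
  obtain ⟨B, hB, hBc, -, -⟩ := exists_e81 h
  have hn : normalizer ((pCore 2 G : Subgroup G) : Set G) = ⊤ := by
    have := Lib.Cores.pCore_normal (G := G) 2
    exact Subgroup.normalizer_eq_top _
  have h1 := rank h (normalizer ((pCore 2 G : Subgroup G) : Set G)) ⟨pCore 2 G, Lib.Cores.pCore_isPGroup 2, hne, rfl⟩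
    (B.subgroupOf _) ⟨⟨fun x y => Subtype.ext (Subtype.ext (by
      have h2 : (x.1.1 : G) * y.1.1 = y.1.1 * x.1.1 :=
        congrArg Subtype.val (hB.1.is_comm.comm ⟨x.1.1, x.2⟩ ⟨y.1.1, y.2⟩)
      exact h2))⟩⟩ (fun x hx => Subtype.ext (hB.2 _ hx))
  rw [Nat.card_congr (subgroupOfEquivOfLe (by rw [hn]; exact le_top)).toEquiv] at h1
  norm_num at h1
  omega

theorem odd_core (h : Hyp G b L) : pPrimeCore 2 G = ⊥ := by
  have : Fact (Nat.Prime 2) := ⟨Nat.prime_two⟩
  obtain ⟨x, y, hx1, hy1, hxy, hxx, hyy, hc⟩ := h.facts.klein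
  set W := pPrimeCore 2 G with hW
  have hWn : W.Normal := pPrimeCore_normal 2 G
  have hWodd : Odd (Nat.card W) := by
    have := (Lib.Cores.le_pPrimeCore_iff (p := 2) hWn).1 le_rfl
    exact (Nat.coprime_two_right).1 this
  have key : ∀ z : G, z ≠ 1 → z * z = 1 → W ⊓ centralizer {z} ≤ ⊥ := by
    intro z hz1 hzz
    have hz2 : orderOf z = 2 := orderOf_eq_prime (by rw [sq, hzz]) hz1
    have h1 := EvenType.CharTwoCent.core_eq_bot h.char2 hz2
    have h2 : W.subgroupOf (centralizer ({z} : Set G)) ≤ pPrimeCore 2 ↥(centralizer ({z} : Set G)) := by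
      refine Lib.Cores.le_pPrimeCore inferInstance ?_
      have h3 : Nat.card (W.subgroupOf (centralizer ({z} : Set G))) ∣ Nat.card W :=
        Subgroup.card_dvd_of_injective
          ((Subgroup.inclusion (inf_le_left : W ⊓ centralizer ({z} : Set G) ≤ W)).comp
            (MonoidHom.mk' (fun x : W.subgroupOf (centralizer ({z} : Set G)) =>
              (⟨x.1.1, x.2, x.1.2⟩ : ↥(W ⊓ centralizer ({z} : Set G)))) fun _ _ => rfl))
          (fun a b hab => by
            have h5 : (a.1.1 : G) = b.1.1 := congrArg (fun z : ↥W => (z : G)) hab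
            exact Subtype.ext (Subtype.ext h5))
      exact Nat.coprime_two_right.2 (Odd.of_dvd_nat hWodd h3)
    intro w hw
    have h3 : w ∈ centralizerPPrimeCore 2 z := ⟨⟨w, hw.2⟩, h2 hw.1, rfl⟩
    rwa [h1] at h3
  have hcc : (x : G) * y = y * x := congrArg Subtype.val hc
  refine le_bot_iff.1 (Lib.KleinGen.le_of_klein W ⊥ hWodd (x : G) (y : G) (congrArg Subtype.val hxx)
    (congrArg Subtype.val hyy) hcc (fun w hw => hWn.conj_mem w hw _) (fun w hw => hWn.conj_mem w hw _)
    (key _ (fun h => hx1 (Subtype.ext h)) (congrArg Subtype.val hxx))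
    (key _ (fun h => hy1 (Subtype.ext h)) (congrArg Subtype.val hyy))
    (key _ (fun h => hxy (Subtype.ext ?_)) ?_))
  · have h1 : (y : G) * y = 1 := congrArg Subtype.val hyy
    have h2 : (x : G) * y = y * y := h.trans h1.symm
    exact mul_right_cancel h2
  · have h1 : (y : G) * y = 1 := congrArg Subtype.val hyy
    have h2 : (x : G) * x = 1 := congrArg Subtype.val hxx
    calc (x : G) * y * (x * y) = x * (y * x) * y := by group
      _ = (x * x) * (y * y) := by rw [← hcc]; group
      _ = 1 := by rw [h1, h2, one_mul]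

theorem exists_comp (h : Hyp G b L) : ∃ S : Subgroup G, IsComponent S := by
  by_contra hcon
  push Not at hcon
  have hl : layer G = ⊥ := SignalizersComponents.ComponentExists.layer_eq_bot_iff.2 hcon
  have hc : ∀ r : ℕ, r.Prime → pCore r G = ⊥ := by
    intro r hr
    by_cases hr2 : r = 2
    · rw [hr2]; exact two_core h
    · have : Fact r.Prime := ⟨hr⟩
      rw [eq_bot_iff, ← odd_core h]
      refine Lib.Cores.le_pPrimeCore (Lib.Cores.pCore_normal r) ?_
      obtain ⟨n, hn⟩ := IsPGroup.iff_card.1 (Lib.Cores.pCore_isPGroup (G := G) r)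
      rw [hn]
      exact Nat.Coprime.pow_left n ((Nat.coprime_primes hr Nat.prime_two).2 hr2)
  have h1 : ∀ x : G, x ∈ centralizer (fittingSubgroup G : Set G) ∧ x ∈ fittingSubgroup G := fun x =>
    Lib.GenFitting.mem_fitting_of_layer_eq_bot hl fun r hr y hy => by
      rw [hc r hr, mem_bot] at hy
      rw [hy, one_mul, mul_one]
  apply h.facts.na
  refine ⟨⟨fun x y => Subtype.ext ?_⟩⟩
  exact mem_centralizer_iff.1 (h1 y).1 x (h1 x).2

/-- the result of the reduction -/
structure Res (G : Type u) [Group G] [Finite G] (b : G) (L S : Subgroup G) : Prop where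
  nrm : S.Normal
  simple : IsSimpleGroup ↥S
  cent : centralizer (S : Set G) = ⊥
  le : L ≤ S
  char2 : IsCharacteristicTwoType ↥S

/-- **The reduction.** -/
theorem main (hSch : ∀ (X : Type u) [Group X] [Finite X] [IsSimpleGroup X], Schreier.Basic.Sch X)
    (h : Hyp G b L) : ∃ S : Subgroup G, Res G b L S := by
  have : Fact (Nat.Prime 2) := ⟨Nat.prime_two⟩
  obtain ⟨S, hS⟩ := exists_comp h
  have h2 : 2 ∣ Nat.card S := H12.CompQ.dvd_card_comp (odd_core h) hS
  obtain ⟨h3, h4, h5, h6⟩ := BabyComp.Fix.comp_simple (fun u hu => EvenType.CharTwoCent.char2_centralizer h.char2 hu) S hS h2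
  refine ⟨S, h4, h3, h5, ?_, OddHalf.Small.Generic.isCharacteristicTwoType_of_centralizers (even_iff_two_dvd.2 h2) h6⟩
  have hperf : ⁅L, L⁆ = L := by
    have hs := h.facts.simple
    have h7 : commutator ↥L = ⊤ := by
      refine (Subgroup.Normal.eq_bot_or_eq_top (inferInstance : (commutator ↥L).Normal)).resolve_left fun hb => h.facts.na ?_
      rw [commutator_eq_bot_iff_center_eq_top] at hb
      refine ⟨⟨fun a c => ?_⟩⟩
      have : a ∈ Subgroup.center ↥L := by rw [hb]; exact mem_top a
      exact ((mem_center_iff.1 this) c).symm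
    have h8 := congrArg (fun K : Subgroup ↥L => K.map L.subtype) h7
    simp only [commutator_def, Subgroup.map_commutator, ← MonoidHom.range_eq_map, Subgroup.range_subtype] at h8
    exact h8
  have hZ : Subgroup.center S = ⊥ := by
    rw [eq_bot_iff]
    intro z hz
    have : (z : G) ∈ centralizer (S : Set G) := by
      rw [mem_centralizer_iff]
      intro s hs
      exact congrArg Subtype.val (mem_center_iff.1 hz ⟨s, hs⟩)
    rw [h5, mem_bot] at this
    exact Subtype.ext this
  have hSchS : Schreier.Basic.Sch (S ⧸ Subgroup.center S) := by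
    have : IsSimpleGroup (S ⧸ Subgroup.center S) := hS.2.2
    exact hSch _
  intro k hk
  obtain ⟨l, hl, hlk⟩ := H12.CompQ.exists_inner L S hperf hS.2 hSchS
    (fun x _ => by rw [Subgroup.normalizer_eq_top]; exact mem_top x) hk
  rw [h5, mem_bot, inv_mul_eq_one] at hlk
  rw [← hlk]
  exact hl

end Cfsg.Agent.H299.Red
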