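import Cfsg.Agent.H299.SpSixFacts
import Cfsg.Prelude.Def_Local

/-!
# The centralizer `C(b) = K × L`

`X` a finite group, `N` a normal subgroup with `Facts N`, `β` a central element of order 3, the centralizer `K` of `N` has
3-rank 1.
* `exists_pi` : the projection onto `N`;
* `odd_card` : `|K|` is odd if the condition on the maximal elementary abelian 3-subgroups in 2-locals holds;
* `twoLocal` : then the 2-local 3-rank is at most 3.
-/

set_option autoImplicit false
set_option linter.unusedSectionVars false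

namespace Cfsg.Agent.H299.RedLocal

open Subgroup Cfsg

variable {X : Type*} [Group X]

theorem card_map_mul_inf [Finite X] {Y : Type*} [Group Y] (f : X →* Y) (A : Subgroup X) :
    Nat.card A = Nat.card (A.map f) * Nat.card (A ⊓ f.ker : Subgroup X) := by
  have h1 := Subgroup.card_eq_card_quotient_mul_card_subgroup (f.comp A.subtype).ker
  rw [Nat.card_congr (QuotientGroup.quotientKerEquivRange (f.comp A.subtype)).toEquiv, MonoidHom.range_comp,
    Subgroup.range_subtype] at h1
  rw [h1]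
  congr 1
  refine Nat.card_congr
    { toFun := fun x => ⟨x.1.1, x.1.2, x.2⟩
      invFun := fun x => ⟨⟨x.1, x.2.1⟩, x.2.2⟩
      left_inv := fun x => rfl
      right_inv := fun x => rfl }

theorem exists_pi (N : Subgroup X) [N.Normal] (hN : Facts N) :
    ∃ π : X →* N, (∀ n : N, π n = n) ∧ π.ker = centralizer (N : Set X) := by
  have hs := hN.simple
  have hfin := hN.fin
  have hZ : Subgroup.center N = ⊥ := by
    refine (Subgroup.center N).normal_of_characteristic.eq_bot_or_eq_top.resolve_right fun h => hN.na ⟨⟨?_⟩⟩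
    intro a b
    have : a ∈ Subgroup.center N := by rw [h]; exact Subgroup.mem_top a
    exact ((Subgroup.mem_center_iff.1 this) b).symm
  have hinj : Function.Injective (MulAut.conj : N →* MulAut N) := by
    rw [injective_iff_map_eq_one]
    intro a ha
    have : a ∈ Subgroup.center N := by
      rw [Subgroup.mem_center_iff]
      intro b
      have h2 := congrArg (fun f : MulAut N => f b) ha
      simp only [MulAut.conj_apply, MulAut.one_apply] at h2
      exact (mul_inv_eq_iff_eq_mul.1 h2).symm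
    rwa [hZ, Subgroup.mem_bot] at this
  let e : N ≃* MulAut N := MulEquiv.ofBijective MulAut.conj ⟨hinj, fun α => by
    obtain ⟨x, hx⟩ := hN.inner α
    exact ⟨x, hx.symm⟩⟩
  have he : ∀ n : N, e n = MulAut.conj n := fun n => rfl
  refine ⟨e.symm.toMonoidHom.comp MulAut.conjNormal, fun n => ?_, ?_⟩
  · show e.symm (MulAut.conjNormal (n : X)) = n
    rw [MulEquiv.symm_apply_eq, he]
    ext x
    simp [MulAut.conjNormal_apply]
  · ext x
    rw [MonoidHom.mem_ker, mem_centralizer_iff]
    show e.symm (MulAut.conjNormal x) = 1 ↔ _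
    rw [MulEquiv.symm_apply_eq, map_one]
    constructor
    · intro h y hy
      have h1 := congrArg (fun f : MulAut N => ((f ⟨y, hy⟩ : N) : X)) h
      simp only [MulAut.conjNormal_apply, MulAut.one_apply] at h1
      exact (mul_inv_eq_iff_eq_mul.1 h1).symm
    · intro h
      ext y
      rw [MulAut.conjNormal_apply, MulAut.one_apply, ← h y.1 y.2]
      group

variable [Finite X] (N : Subgroup X) [N.Normal]

section

variable {N}

theorem isElem_map {Y : Type*} [Group Y] (f : X →* Y) {A : Subgroup X} {p : ℕ} (hA : IsElementaryAbelian p A) :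
    IsElementaryAbelian p (A.map f) := by
  refine ⟨⟨⟨?_⟩⟩, ?_⟩
  · rintro ⟨_, a, ha, rfl⟩ ⟨_, b, hb, rfl⟩
    apply Subtype.ext
    show f a * f b = f b * f a
    rw [← map_mul, ← map_mul]
    congr 1
    exact congrArg Subtype.val (hA.1.is_comm.comm ⟨a, ha⟩ ⟨b, hb⟩)
  · rintro _ ⟨a, ha, rfl⟩
    rw [← map_pow, hA.2 a ha, map_one]

theorem isElem_mono {A B : Subgroup X} {p : ℕ} (hA : IsElementaryAbelian p A) (h : B ≤ A) :
    IsElementaryAbelian p B := by
  refine ⟨⟨⟨?_⟩⟩, fun b hb => hA.2 b (h hb)⟩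
  rintro ⟨a, ha⟩ ⟨b, hb⟩
  have h1 : a * b = b * a := congrArg Subtype.val (hA.1.is_comm.comm ⟨a, h ha⟩ ⟨b, h hb⟩)
  exact Subtype.ext h1

theorem map_normalizer {Y : Type*} [Group Y] (f : X →* Y) {A Q : Subgroup X} (h : A ≤ normalizer (Q : Set X)) :
    A.map f ≤ normalizer ((Q.map f : Subgroup Y) : Set Y) := by
  rintro _ ⟨a, ha, rfl⟩
  rw [mem_normalizer_iff]
  intro y
  constructor
  · rintro ⟨x, hx, rfl⟩
    exact ⟨a * x * a⁻¹, (mem_normalizer_iff.1 (h ha) x).1 hx, by simp⟩
  · rintro ⟨x, hx, hxy⟩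
    have h2 : f (a⁻¹ * x * a) = y := by
      rw [map_mul, map_mul, map_inv, hxy]
      group
    refine ⟨a⁻¹ * x * a, ?_, h2⟩
    have h4 := (mem_normalizer_iff.1 (inv_mem (h ha)) x).1 hx
    rwa [inv_inv] at h4

/-- `m₃(X) ≤ 4` -/
theorem card_le (hN : Facts N) (hK : ∀ A : Subgroup X, A ≤ centralizer (N : Set X) → IsElementaryAbelian 3 A →
    Nat.card A ≤ 3) {A : Subgroup X} (hA : IsElementaryAbelian 3 A) : Nat.card A ≤ 81 := by
  obtain ⟨π, -, hker⟩ := exists_pi N hN
  have h1 := card_map_mul_inf π A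
  have h2 : IsElementaryAbelian 3 (A.map π) := isElem_map π hA
  have h3 := hN.rk (A.map π) h2.1 h2.2
  have h4 := hK (A ⊓ π.ker) (by rw [hker]; exact inf_le_right) (isElem_mono hA inf_le_left)
  calc Nat.card A = _ := h1
    _ ≤ 3 ^ 3 * 3 := Nat.mul_le_mul h3 h4
    _ = 81 := by norm_num

variable (N) in
/-- the subgroup of order 81 -/
theorem exists_e81 (hN : Facts N) {β : X} (hβ : orderOf β = 3) (hβc : ∀ x : X, β * x = x * β) :
    ∃ A : Subgroup N, IsElementaryAbelian 3 A ∧ Nat.card A = 27 ∧ ∃ B : Subgroup X, IsElementaryAbelian 3 B ∧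
      81 ≤ Nat.card B ∧ B = A.map N.subtype ⊔ zpowers β := by
  obtain ⟨A, hA, hc⟩ := hN.e27
  obtain ⟨π, hπ, hker⟩ := exists_pi N hN
  refine ⟨A, hA, hc, A.map N.subtype ⊔ zpowers β, ?_, ?_, rfl⟩
  · have hgen : ∀ x ∈ A.map N.subtype ⊔ zpowers β, ∃ a ∈ A, ∃ k : ℤ, x = (a : X) * β ^ k := by
      intro x hx
      have hcm : ∀ y ∈ zpowers β, ∀ x : X, y * x = x * y := by
        rintro _ ⟨k, rfl⟩ x
        exact (Commute.zpow_left (hβc x) k)
      have : (zpowers β).Normal := ⟨fun n hn g => by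
        rw [← hcm n hn g, mul_inv_cancel_right]; exact hn⟩
      rw [← SetLike.mem_coe, mul_normal] at hx
      obtain ⟨_, ⟨a, ha, rfl⟩, _, ⟨k, rfl⟩, rfl⟩ := hx
      exact ⟨a, ha, k, rfl⟩
    refine ⟨⟨⟨?_⟩⟩, ?_⟩
    · rintro ⟨x, hx⟩ ⟨y, hy⟩
      obtain ⟨a, ha, k, rfl⟩ := hgen x hx
      obtain ⟨a', ha', k', rfl⟩ := hgen y hy
      apply Subtype.ext
      show (a : X) * β ^ k * ((a' : X) * β ^ k') = (a' : X) * β ^ k' * ((a : X) * β ^ k)
      have h1 : (a : X) * a' = a' * a := by
        have := congrArg (fun z : ↥A => ((z : N) : X)) (hA.1.is_comm.comm ⟨a, ha⟩ ⟨a', ha'⟩)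
        exact this
      have h2 : ∀ (k : ℤ) (x : X), β ^ k * x = x * β ^ k := fun k x => Commute.zpow_left (hβc x) k
      calc (a : X) * β ^ k * ((a' : X) * β ^ k') = (a : X) * (β ^ k * (a' : X)) * β ^ k' := by group
        _ = (a : X) * a' * (β ^ k * β ^ k') := by rw [h2]; group
        _ = a' * (a * β ^ k') * β ^ k := by rw [h1, ← zpow_add, add_comm, zpow_add]; group
        _ = (a' : X) * β ^ k' * ((a : X) * β ^ k) := by rw [← h2 k' a]; group
    · intro x hx
      obtain ⟨a, ha, k, rfl⟩ := hgen x hx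
      have h2 : Commute (a : X) (β ^ k) := (Commute.zpow_left (hβc a) k).symm
      have h3 : (a : X) ^ 3 = 1 := by
        have := congrArg (fun z : N => (z : X)) (hA.2 a ha)
        exact this
      have h4 : (β ^ k) ^ 3 = 1 := by
        rw [← zpow_natCast, ← zpow_mul, mul_comm, zpow_mul, zpow_natCast, ← hβ, pow_orderOf_eq_one, one_zpow]
      rw [h2.mul_pow, h3, h4, mul_one]
  · have h1 := card_map_mul_inf π (A.map N.subtype ⊔ zpowers β)
    have h2 : Nat.card A ≤ Nat.card ((A.map N.subtype ⊔ zpowers β).map π) := by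
      refine Subgroup.card_le_of_le ?_
      intro a ha
      exact ⟨a, mem_sup_left ⟨a, ha, rfl⟩, hπ a⟩
    have h3 : Nat.card (zpowers β) ≤ Nat.card ((A.map N.subtype ⊔ zpowers β) ⊓ π.ker : Subgroup X) := by
      refine Subgroup.card_le_of_le (le_inf le_sup_right ?_)
      rw [hker]
      rintro _ ⟨k, rfl⟩
      rw [mem_centralizer_iff]
      intro y _
      exact (Commute.zpow_left (hβc y) k).symm
    rw [Nat.card_zpowers, hβ] at h3
    rw [hc] at h2
    calc 81 = 27 * 3 := by norm_num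
      _ ≤ _ := Nat.mul_le_mul h2 h3
      _ = _ := h1.symm

end

/-- **`|C(N)|` is odd.** -/
theorem odd_card (hN : Facts N) (hK : ∀ A : Subgroup X, A ≤ centralizer (N : Set X) → IsElementaryAbelian 3 A →
    Nat.card A ≤ 3) {β : X} (hβ : orderOf β = 3) (hβc : ∀ x : X, β * x = x * β)
    (hA5 : ∀ B : Subgroup X, IsElementaryAbelian 3 B → (∃ H : Subgroup X, IsTwoLocal H ∧ B ≤ H) →
      (∀ B' : Subgroup X, IsElementaryAbelian 3 B' → (∃ H : Subgroup X, IsTwoLocal H ∧ B' ≤ H) →
        Nat.card ↥B' ≤ Nat.card ↥B) →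
      ∃ Q : Subgroup X, IsPGroup 2 ↥Q ∧ B ≤ normalizer (Q : Set X) ∧ ⁅Q, B⁆ ≠ ⊥) :
    Odd (Nat.card (centralizer (N : Set X))) := by
  by_contra hcon
  rw [Nat.not_odd_iff_even] at hcon
  obtain ⟨k, hk⟩ := exists_prime_orderOf_dvd_card' (G := centralizer (N : Set X)) 2 hcon.two_dvd
  have hk2 : orderOf (k : X) = 2 := by rw [Subgroup.orderOf_coe, hk]
  obtain ⟨A, hA, hc, B, hB, hBc, hBd⟩ := exists_e81 N hN hβ hβc
  have hkN : ∀ n : N, (n : X) * k = k * n := fun n => mem_centralizer_iff.1 k.2 n n.2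
  have hBk : ∀ x ∈ B, x * (k : X) = k * x := by
    intro x hx
    have h1 : B ≤ centralizer ({(k : X)} : Set X) := by
      rw [hBd, sup_le_iff]
      constructor
      · rintro _ ⟨a, -, rfl⟩
        exact mem_centralizer_singleton_iff.2 (hkN a)
      · rintro _ ⟨j, rfl⟩
        exact mem_centralizer_singleton_iff.2 (Commute.zpow_left (hβc k) j)
    exact mem_centralizer_singleton_iff.1 (h1 hx)
  have hloc : ∃ H : Subgroup X, IsTwoLocal H ∧ B ≤ H := by
    refine ⟨normalizer (zpowers (k : X) : Set X), ⟨zpowers (k : X), ?_, ?_, rfl⟩, ?_⟩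
    · refine IsPGroup.of_card (n := 1) ?_
      rw [Nat.card_zpowers, hk2, pow_one]
    · intro h
      rw [zpowers_eq_bot] at h
      rw [h, orderOf_one] at hk2
      norm_num at hk2
    · intro x hx
      rw [mem_normalizer_iff]
      have h1 : ∀ y ∈ zpowers (k : X), x * y * x⁻¹ = y := by
        rintro _ ⟨j, rfl⟩
        have := (Commute.zpow_right (hBk x hx) j : Commute x ((k : X) ^ j))
        rw [this.eq, mul_inv_cancel_right]
      intro y
      constructor
      · intro hy
        rw [h1 y hy]; exact hy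
      · intro hy
        have h2 : x⁻¹ * (x * y * x⁻¹) * x = y := by group
        have h3 := h1 _ hy
        have h4 : x * y * x⁻¹ = y := by
          have h5 : x⁻¹ * (x * y * x⁻¹) * x = x * y * x⁻¹ := by
            nth_rewrite 1 [← h3]
            group
          rw [← h5, h2]
        rw [← h4]; exact hy
  obtain ⟨Q, hQ2, hQn, hQne⟩ := hA5 B hB hloc fun B' hB' _ => (card_le hN hK hB').trans hBc
  obtain ⟨π, hπ, hker⟩ := exists_pi N hN
  have hAm : A ≤ B.map π := by
    intro a ha
    refine ⟨a, ?_, hπ a⟩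
    rw [hBd]
    exact mem_sup_left ⟨a, ha, rfl⟩
  have h1 : Q.map π = ⊥ := hN.noQ A (Q.map π) hA hc (hQ2.map π) (hAm.trans (map_normalizer π hQn))
  have h2 : Q ≤ centralizer (N : Set X) := by
    rw [← hker]
    exact (Subgroup.map_eq_bot_iff Q).1 h1
  apply hQne
  rw [Subgroup.commutator_eq_bot_iff_le_centralizer]
  intro q hq
  rw [mem_centralizer_iff]
  intro x hx
  have h3 : B ≤ centralizer ({q} : Set X) := by
    rw [hBd, sup_le_iff]
    constructor
    · rintro _ ⟨a, -, rfl⟩
      exact mem_centralizer_singleton_iff.2 (mem_centralizer_iff.1 (h2 hq) a a.2)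
    · rintro _ ⟨j, rfl⟩
      exact mem_centralizer_singleton_iff.2 (Commute.zpow_left (hβc q) j)
  exact mem_centralizer_singleton_iff.1 (h3 hx)

/-- **The 2-local 3-rank is at most 3.** -/
theorem twoLocal (hN : Facts N) (hK : ∀ A : Subgroup X, A ≤ centralizer (N : Set X) → IsElementaryAbelian 3 A →
    Nat.card A ≤ 3) (hodd : Odd (Nat.card (centralizer (N : Set X)))) : TwoLocalPRankLE 3 3 X := by
  obtain ⟨π, hπ, hker⟩ := exists_pi N hN
  rintro H ⟨T, hT, hT1, rfl⟩ A hA hA3
  set A' : Subgroup X := A.map (normalizer (T : Set X)).subtype with hA'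
  have hcA : Nat.card A' = Nat.card A := Subgroup.card_map_of_injective (Subgroup.subtype_injective _)
  have heA : IsElementaryAbelian 3 A' := isElem_map _ ⟨hA, hA3⟩
  have hAn : A' ≤ normalizer (T : Set X) := by
    rintro _ ⟨a, -, rfl⟩
    exact a.2
  have h1 := card_map_mul_inf π A'
  have h4 := hK (A' ⊓ π.ker) (by rw [hker]; exact inf_le_right) (isElem_mono heA inf_le_left)
  have h5 := isElem_map π heA
  have h6 := hN.rk (A'.map π) h5.1 h5.2
  have h7 : Nat.card (A'.map π) ≠ 27 := by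
    intro h
    have h8 : T.map π = ⊥ := hN.noQ _ _ h5 h (hT.map π) (map_normalizer π hAn)
    have h9 : T ≤ centralizer (N : Set X) := by
      rw [← hker]
      exact (Subgroup.map_eq_bot_iff T).1 h8
    apply hT1
    have h10 : Nat.card T ∣ Nat.card (centralizer (N : Set X)) := Subgroup.card_dvd_of_le h9
    obtain ⟨n, hn⟩ := IsPGroup.iff_card.1 hT
    rw [hn] at h10
    rcases n with _ | n
    · exact Subgroup.card_eq_one.1 (by rw [hn, pow_zero])
    · exfalso
      have : 2 ∣ Nat.card (centralizer (N : Set X)) := (dvd_pow_self 2 (by omega)).trans h10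
      exact (Nat.not_even_iff_odd.2 hodd) (even_iff_two_dvd.2 this)
  have h8 : Nat.card (A'.map π) ≤ 9 := by
    have : Fact (Nat.Prime 3) := ⟨Nat.prime_three⟩
    have hp : IsPGroup 3 (A'.map π) := fun g => ⟨1, Subtype.ext (by
      rw [pow_one]
      exact h5.2 g g.2)⟩
    obtain ⟨n, hn⟩ := IsPGroup.iff_card.1 hp
    rw [hn] at h6 h7 ⊢
    have h9 : n ≤ 3 := (Nat.pow_le_pow_iff_right (by norm_num)).1 h6
    interval_cases n
    · norm_num
    · norm_num
    · norm_num
    · exact absurd (by norm_num) h7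
  rw [← hcA, h1]
  calc _ ≤ 9 * 3 := Nat.mul_le_mul h8 h4
    _ = 3 ^ 3 := by norm_num

end Cfsg.Agent.H299.RedLocal
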