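import Cfsg.Agent.H299.Cons
import Cfsg.Agent.H732.SelfCentO

/-!
# `Ω₈⁺(2)`: no element of order 21
-/

set_option autoImplicit false

namespace Cfsg.Agent.H299.RowD42

open Subgroup Cfsg
open Cfsg.Agent.LieClassical.OmegaReindex Cfsg.Agent.H377 Cfsg.Agent.H150

theorem orderOf_ne {F : Type} [Field F] [Fintype F] (hF : Fintype.card F = 2) (g : POmega F (quadFormPlus 4 F)) :
    orderOf g ≠ 7 * 3 := by
  have hdim : Module.finrank F (Fin 4 ⊕ Fin 4 → F) = 2 * 4 := by simp
  have hnd := quadPlus_nondegenerate (m := 4) (F := F)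
  have hs := quadPlus_sing (F := F) (n := 4) (by omega)
  revert g
  rw [← coe_quadPlus]
  intro g
  exact H732.SelfCent.pomega_eight_ne hF _ hnd hdim hs (by rw [coe_quadPlus]; exact hasSign_quadFormPlus 4) g

theorem d42_inner {F : Type} [Field F] [Fintype F] (hF : Fintype.card F = 2)
    {b : POmega F (quadFormPlus 4 F)} {L : Subgroup (POmega F (quadFormPlus 4 F))} (h : In _ b L) : False := by
  have hfL := h.facts.fin
  have h7 : 7 ∣ Nat.card L := by
    rw [h.facts.card]
    norm_num
  have : Fact (Nat.Prime 7) := ⟨by norm_num⟩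
  obtain ⟨x, hx⟩ := exists_prime_orderOf_dvd_card' (G := L) 7 h7
  have hxb : Commute (x : POmega F (quadFormPlus 4 F)) b := by
    have h1 := h.fix x x.2
    rw [MulAut.conj_apply, mul_inv_eq_iff_eq_mul] at h1
    exact h1.symm
  refine orderOf_ne hF ((x : POmega F (quadFormPlus 4 F)) * b) ?_
  have h3 : orderOf (x : POmega F (quadFormPlus 4 F)) = 7 := by rw [Subgroup.orderOf_coe, hx]
  rw [hxb.orderOf_mul_eq_mul_orderOf_of_coprime (by rw [h3, h.ob]; norm_num), h3, h.ob]

end Cfsg.Agent.H299.RowD42
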