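import Cfsg.Agent.H299.Final
import Cfsg.Agent.H299.RowD4
import Cfsg.Agent.H299.RowD42
import Cfsg.Agent.H299.RowD4Odd
import Cfsg.Agent.H296.FFourTop
import Cfsg.Agent.H296.FFourIn
import Cfsg.Agent.H771.RowCoTwo
import Cfsg.Agent.H771.RowNC

/-!
# All rows of S3159
-/

set_option autoImplicit false

namespace Cfsg.Agent.H299

universe u

theorem rows : Rows.{u} where
  f42 := fun hG _ _ hc _ _ _ hF e => H296.FFour.f42_top hG hc hF e
  d4 := fun hG _ _ hc _ _ _ _ hF hf h3 hn e => RowD4Odd.d4_odd hG hc hF hf h3 hn e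
  f4in := fun hF hf hf1 _ _ h => H296.FFourIn.f4_inner_of hF hf hf1 h h.ct7
  d4in := fun hF hf hf1 _ _ h => RowD4.d4_inner hF hf hf1 h
  d42in := fun hF _ _ h => RowD42.d42_inner hF h
  co2 := fun e _ _ h => H771.RowCoTwo.co2 e h
  th := fun e _ _ h => H771.RowNC.th e h
  a12 := fun e => H771.RowNC.not_char2_a12 e
  suz := fun e => H771.RowNC.not_char2_suz e
  co3 := fun e => H771.RowNC.not_char2_co3 e
  hn := fun e => H771.RowNC.not_char2_hn e

end Cfsg.Agent.H299
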