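import Cfsg.Agent.OddHalf.Small.Sp
import Cfsg.Agent.SigZeroSuz.Row

/-!
# Elementary abelian 3-subgroups of maximal rank of symplectic groups in characteristic two

`eq_bot` : if `A` is an elementary abelian `3`-subgroup of order `3 ^ n` of `Sp_{2m}(F)`, `F` finite of characteristic
two, `|F| ^ (2 m) < 2 * 4 ^ n`, then `A` normalizes no nontrivial 2-subgroup.
-/

set_option autoImplicit false

namespace Cfsg.Agent.H299.SpLoc

open Subgroup Cfsg Cfsg.Agent.OddHalf.Small.Sp Cfsg.Agent.ClassicalGeometry.SympBasic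
open scoped Matrix

variable {F : Type*} [Field F] {m : ℕ}

local notation "VV" => (Fin m ⊕ Fin m → F)
local notation "GG" => Matrix.symplecticGroup (Fin m) F

theorem rep_inv_rep (g : GG) (v : VV) : rep m F g⁻¹ (rep m F g v) = v := by
  rw [← rep_mul, inv_mul_cancel, map_one]; rfl

theorem rep_rep_inv (g : GG) (v : VV) : rep m F g (rep m F g⁻¹ v) = v := by
  rw [← rep_mul, mul_inv_cancel, map_one]; rfl

/-- The action on the multiplicative group of vectors. -/
def aut (m : ℕ) (F : Type*) [Field F] : Matrix.symplecticGroup (Fin m) F →* MulAut (Multiplicative (Fin m ⊕ Fin m → F)) where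
  toFun g := AddEquiv.toMultiplicative
    { toFun := rep m F g
      invFun := rep m F g⁻¹
      left_inv := rep_inv_rep g
      right_inv := rep_rep_inv g
      map_add' := fun x y => map_add _ x y }
  map_one' := by
    ext v : 1
    show Multiplicative.ofAdd (rep m F 1 v.toAdd) = v
    rw [map_one]; rfl
  map_mul' a b := by
    ext v : 1
    show Multiplicative.ofAdd (rep m F (a * b) v.toAdd) = Multiplicative.ofAdd (rep m F a (rep m F b v.toAdd))
    rw [rep_mul]

theorem aut_apply (g : GG) (v : VV) :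
    aut m F g (Multiplicative.ofAdd v) = Multiplicative.ofAdd (rep m F g v) := rfl

theorem aut_injective : Function.Injective (aut m F) := by
  intro a b h
  apply rep_injective
  ext v : 1
  have := congrArg (fun f : MulAut (Multiplicative (Fin m ⊕ Fin m → F)) => (f (Multiplicative.ofAdd v)).toAdd) h
  exact this

/-- fixed vectors -/
def CC (Q : Subgroup GG) : AddSubgroup VV where
  carrier := {v | ∀ q ∈ Q, rep m F q v = v}
  zero_mem' := fun q _ => map_zero _
  add_mem' := fun {x y} hx hy q hq => by rw [map_add, hx q hq, hy q hq]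
  neg_mem' := fun {x} hx q hq => by rw [map_neg, hx q hq]

/-- commutators -/
def DD (Q : Subgroup GG) : AddSubgroup VV := AddSubgroup.closure {x | ∃ q ∈ Q, ∃ v : VV, rep m F q v - v = x}

theorem form_zero {Q : Subgroup GG} {r s : VV} (hr : r ∈ CC Q) (hs : s ∈ DD Q) : sympForm m F r s = 0 := by
  unfold DD at hs
  induction hs using AddSubgroup.closure_induction with
  | mem x hx =>
    obtain ⟨q, hq, v, rfl⟩ := hx
    rw [sympForm_sub_right]
    nth_rewrite 1 [← hr q hq]
    rw [form_rep, sub_self]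
  | zero => exact sympForm_zero_right r
  | add x y _ _ hx hy => rw [sympForm_add_right, hx, hy, add_zero]
  | neg x _ hx => rw [sympForm_neg_right, hx, neg_zero]

theorem conj_mem {Q : Subgroup GG} {a : GG} (ha : a ∈ normalizer (Q : Set GG)) {q : GG} (hq : q ∈ Q) :
    a⁻¹ * q * a ∈ Q := by
  have h1 := (mem_normalizer_iff.1 (inv_mem ha) q).1 hq
  rwa [inv_inv] at h1

theorem CC_inv {Q : Subgroup GG} {a : GG} (ha : a ∈ normalizer (Q : Set GG)) {r : VV} (hr : r ∈ CC Q) :
    rep m F a r ∈ CC Q := by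
  intro q hq
  have h1 := hr _ (conj_mem ha hq)
  have h2 : rep m F a (rep m F (a⁻¹ * q * a) r) = rep m F q (rep m F a r) := by
    rw [← rep_mul, ← rep_mul]
    congr 1
    group
  rw [← h2, h1]

theorem DD_inv {Q : Subgroup GG} {a : GG} (ha : a ∈ normalizer (Q : Set GG)) {r : VV} (hr : r ∈ DD Q) :
    rep m F a r ∈ DD Q := by
  unfold DD at hr ⊢
  induction hr using AddSubgroup.closure_induction with
  | mem x hx =>
    obtain ⟨q, hq, v, rfl⟩ := hx
    refine AddSubgroup.subset_closure ⟨a * q * a⁻¹, (mem_normalizer_iff.1 ha q).1 hq, rep m F a v, ?_⟩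
    rw [map_sub, ← rep_mul]
    congr 1
    rw [← rep_mul]
    congr 1
    group
  | zero => rw [map_zero]; exact zero_mem _
  | add x y _ _ hx hy => rw [map_add]; exact add_mem hx hy
  | neg x _ hx => rw [map_neg]; exact neg_mem hx

/-- the radical -/
def RR (Q : Subgroup GG) : AddSubgroup VV := CC Q ⊓ DD Q

theorem RR_ne_bot [Finite F] [CharP F 2] {Q : Subgroup GG} (hQ : IsPGroup 2 Q) (hQ1 : Q ≠ ⊥) :
    ∃ r ∈ RR Q, r ≠ 0 := by
  obtain ⟨q, hq, hq1⟩ := (Subgroup.bot_or_exists_ne_one Q).resolve_left hQ1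
  have hfin : Finite GG :=
    Finite.of_injective (fun g => (g : Matrix (Fin m ⊕ Fin m) (Fin m ⊕ Fin m) F)) Subtype.val_injective
  have hD1 : ∃ v : VV, rep m F q v - v ≠ 0 := by
    by_contra hcon
    push Not at hcon
    apply hq1
    apply rep_injective
    ext v : 1
    rw [map_one]
    exact sub_eq_zero.1 (hcon v)
  letI act : MulAction Q (DD Q) :=
    { smul := fun a x => ⟨rep m F a x, DD_inv (le_normalizer a.2) x.2⟩
      one_smul := fun x => Subtype.ext (by
        show rep m F 1 x = x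
        rw [map_one]; rfl)
      mul_smul := fun a b x => Subtype.ext (rep_mul _ _ _) }
  have h2 : 2 ∣ Nat.card (DD Q) := by
    obtain ⟨v, hv⟩ := hD1
    have h3 : addOrderOf (⟨rep m F q v - v, AddSubgroup.subset_closure ⟨q, hq, v, rfl⟩⟩ : DD Q) = 2 := by
      refine addOrderOf_eq_prime ?_ fun h => hv (congrArg Subtype.val h)
      apply Subtype.ext
      show 2 • (rep m F q v - v) = 0
      rw [two_nsmul]
      exact add_self_vec _
    rw [← h3]
    exact addOrderOf_dvd_natCard _
  have h0 : (0 : DD Q) ∈ MulAction.fixedPoints Q (DD Q) := by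
    intro a
    apply Subtype.ext
    exact map_zero _
  obtain ⟨b, hb, hb0⟩ := hQ.exists_fixed_point_of_prime_dvd_card_of_fixed_point (DD Q) h2 h0
  refine ⟨b, ⟨fun a ha => congrArg Subtype.val (hb ⟨a, ha⟩), b.2⟩, fun h => hb0 (Subtype.ext h.symm)⟩

/-- **`A` normalizes no nontrivial 2-subgroup.** -/
theorem eq_bot [Finite F] [CharP F 2] {n : ℕ} (hn : Nat.card F ^ (2 * m) < 2 * 4 ^ n) {A Q : Subgroup GG}
    (hA : Cfsg.IsElementaryAbelian 3 A) (hAc : Nat.card A = 3 ^ n) (hQ : IsPGroup 2 Q)
    (hAQ : A ≤ normalizer (Q : Set GG)) : Q = ⊥ := by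
  by_contra hQ1
  obtain ⟨r, hr, hr0⟩ := RR_ne_bot hQ hQ1
  have : Fact (Nat.Prime 3) := ⟨Nat.prime_three⟩
  set K : Subgroup (Multiplicative VV) := AddSubgroup.toSubgroup
    { carrier := {u : VV | ∀ r ∈ RR Q, sympForm m F u r = 0}
      zero_mem' := fun r _ => sympForm_zero_left r
      add_mem' := fun {x y} hx hy r hr => by rw [sympForm_add_left, hx r hr, hy r hr, add_zero]
      neg_mem' := fun {x} hx r hr => by rw [sympForm_neg_left, hx r hr, neg_zero] } with hK
  have mK : ∀ u : VV, Multiplicative.ofAdd u ∈ K ↔ ∀ r ∈ RR Q, sympForm m F u r = 0 := fun u => Iff.rfl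
  have hRinv : ∀ a ∈ A, ∀ r ∈ RR Q, rep m F a r ∈ RR Q := fun a ha r hr =>
    ⟨CC_inv (hAQ ha) hr.1, DD_inv (hAQ ha) hr.2⟩
  have hiso : ∀ r ∈ RR Q, ∀ s ∈ RR Q, sympForm m F r s = 0 := fun r hr s hs => form_zero hr.1 hs.2
  have key : K = ⊤ := by
    refine Cfsg.Agent.SigZeroSuz.Fix.eq_top_of (p := 3) (c := 4) (n := n) (A := A.map (aut m F)) (by norm_num) ?_
      Cfsg.Agent.SigZeroSuz.Fix.c_three ?_ ?_ ?_ ?_ ?_ ?_
    · intro u
      exact add_self_vec (m := m) (F := F) u.toAdd
    · rintro _ ⟨a, ha, rfl⟩ _ ⟨b, hb, rfl⟩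
      rw [← map_mul, ← map_mul]
      congr 1
      exact congrArg Subtype.val (hA.1.is_comm.comm ⟨a, ha⟩ ⟨b, hb⟩)
    · rintro _ ⟨a, ha, rfl⟩
      rw [← map_pow, hA.2 a ha, map_one]
    · rw [Subgroup.card_map_of_injective aut_injective, hAc]
    · have h1 : Nat.card (Multiplicative VV) = Nat.card F ^ (2 * m) := by
        have h2 : Nat.card (Multiplicative VV) = Nat.card VV := rfl
        rw [h2, Nat.card_fun]
        congr 1
        rw [Nat.card_eq_fintype_card, Fintype.card_sum, Fintype.card_fin, two_mul]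
      rw [h1]
      exact hn
    · rintro _ ⟨a, ha, rfl⟩ u hu
      change Multiplicative.ofAdd (rep m F a u.toAdd) ∈ K
      rw [mK]
      intro r hr
      have h1 := hRinv a⁻¹ (inv_mem ha) r hr
      have h2 := hu _ h1
      have h3 := form_rep a u.toAdd (rep m F a⁻¹ r)
      rw [rep_rep_inv] at h3
      rw [h3]
      exact h2
    · rintro _ ⟨a, ha, rfl⟩ hfix u
      change Multiplicative.ofAdd (rep m F a u.toAdd + -u.toAdd) ∈ K
      rw [mK]
      intro r hr
      have h1 : rep m F a r = r := by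
        have h2 := hfix (Multiplicative.ofAdd r) ((mK r).2 fun s hs => hiso r hr s hs)
        exact h2
      rw [sympForm_add_left, sympForm_neg_left]
      nth_rewrite 1 [← h1]
      rw [form_rep, add_neg_cancel]
  apply hr0
  apply eq_zero_of_forall_sympForm_left
  intro w
  have h1 : Multiplicative.ofAdd w ∈ K := by rw [key]; exact Subgroup.mem_top _
  exact (mK w).1 h1 r hr

end Cfsg.Agent.H299.SpLoc
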