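import Cfsg.Agent.StdLThreeFour.Facts1
import Cfsg.Agent.OddCyclic.FpfThree
import Cfsg.Agent.J2Sylow.SThree

/-!
# Recognition of the Sylow 2-subgroup of `PSL(3,4)`

`exists_mulEquiv_S0`: a group of order 64 with maps `A B Z : F4 → T` satisfying the relations of the
unitriangular group is isomorphic to `S0`.
`exists_mulEquiv_of_fpf`: a group of order 64 with a fixed-point-free automorphism of order three and two
non-commuting involutions `a`, `b` with `[a, b]` central of order two is isomorphic to `S0`.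
-/

set_option autoImplicit false

namespace Cfsg.Agent.H299.UTRecog

open Cfsg.Agent.SporadicA.FieldFour
open scoped commutatorElement
open Cfsg.Agent.StdLThreeFour.Base Cfsg.Agent.StdLThreeFour.Facts1

/-- the coordinates of an element of `S0` -/
noncomputable def crd (g : S0) : F4 × F4 × F4 :=
  (Classical.choose g.2, Classical.choose (Classical.choose_spec g.2),
    Classical.choose (Classical.choose_spec (Classical.choose_spec g.2)))

theorem crd_spec (g : S0) : (g : L0) = e (crd g).1 (crd g).2.1 (crd g).2.2 :=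
  Classical.choose_spec (Classical.choose_spec (Classical.choose_spec g.2))

theorem crd_mul (g h : S0) : crd (g * h) = ((crd g).1 + (crd h).1, (crd g).2.1 + (crd h).2.1,
    (crd h).1 * (crd g).2.1 + (crd g).2.2 + (crd h).2.2) := by
  have h1 := crd_spec (g * h)
  rw [Subgroup.coe_mul, crd_spec g, crd_spec h, e_mul] at h1
  obtain ⟨h2, h3, h4⟩ := e_inj h1
  rw [h2, h3, h4]

theorem crd_e (a b c : F4) : crd ⟨e a b c, e_mem a b c⟩ = (a, b, c) := by
  have h1 := crd_spec ⟨e a b c, e_mem a b c⟩
  obtain ⟨h2, h3, h4⟩ := e_inj h1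
  exact Prod.ext h2.symm (Prod.ext h3.symm h4.symm)

theorem crd_inj {g h : S0} (hgh : crd g = crd h) : g = h := by
  apply Subtype.ext
  rw [crd_spec g, crd_spec h, hgh]

theorem sub_ne (a b : F4) (h : ¬ (a = 0 ∧ b = 0)) : ∃ a' b' : F4, a' * b + a * b' ≠ 0 := by
  revert a b; decide

/-- **Recognition by coordinates.** -/
theorem exists_mulEquiv_S0 {T : Type*} [Group T] (hT : Nat.card T = 64) (A B Z : F4 → T)
    (hA : ∀ s t, A (s + t) = A s * A t) (hB : ∀ s t, B (s + t) = B s * B t)
    (hZ : ∀ s t, Z (s + t) = Z s * Z t) (hZc : ∀ s g, Z s * g = g * Z s)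
    (hBA : ∀ s t, B t * A s = A s * B t * Z (s * t)) (hZi : ∀ s, Z s = 1 → s = 0) :
    Nonempty (T ≃* S0) := by
  have : Finite T := Nat.finite_of_card_ne_zero (by rw [hT]; norm_num)
  let F : S0 →* T :=
    MonoidHom.mk' (fun g => A (crd g).1 * B (crd g).2.1 * Z (crd g).2.2) (by
      intro g h
      show A (crd (g * h)).1 * B (crd (g * h)).2.1 * Z (crd (g * h)).2.2 = _
      rw [crd_mul]
      simp only [hA, hB, hZ]
      set a := (crd g).1
      set b := (crd g).2.1
      set c := (crd g).2.2
      set a' := (crd h).1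
      set b' := (crd h).2.1
      set c' := (crd h).2.2
      calc A a * A a' * (B b * B b') * (Z (a' * b) * Z c * Z c')
          = A a * A a' * B b * (Z (a' * b) * Z c * B b') * Z c' := by
            have : Z (a' * b) * Z c * B b' = B b' * (Z (a' * b) * Z c) := by
              rw [mul_assoc, hZc c, ← mul_assoc, hZc (a' * b), mul_assoc]
            rw [this]; group
        _ = A a * (A a' * B b * Z (a' * b)) * Z c * B b' * Z c' := by group
        _ = A a * (B b * A a') * Z c * B b' * Z c' := by rw [← hBA]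
        _ = A a * B b * (A a' * Z c) * B b' * Z c' := by group
        _ = A a * B b * (Z c * A a') * B b' * Z c' := by rw [hZc c]
        _ = A a * B b * Z c * (A a' * B b' * Z c') := by group)
  have hF : ∀ g, F g = A (crd g).1 * B (crd g).2.1 * Z (crd g).2.2 := fun g => rfl
  have hA0 : A 0 = 1 := by
    have := hA 0 0; rw [add_zero] at this; exact left_eq_mul.mp this
  have hB0 : B 0 = 1 := by
    have := hB 0 0; rw [add_zero] at this; exact left_eq_mul.mp this
  have hZ0 : Z 0 = 1 := by
    have := hZ 0 0; rw [add_zero] at this; exact left_eq_mul.mp this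
  have hinj : Function.Injective F := by
    rw [injective_iff_map_eq_one]
    intro g hg
    have key : (crd g).1 = 0 ∧ (crd g).2.1 = 0 := by
      by_contra hne
      obtain ⟨a', b', hab⟩ := sub_ne _ _ hne
      let k : S0 := ⟨e a' b' 0, e_mem _ _ _⟩
      have h1 : F (g * k * g⁻¹ * k⁻¹) = 1 := by
        rw [map_mul, map_mul, map_mul, hg, map_inv, hg, map_inv]; group
      have h2 : g * k * g⁻¹ * k⁻¹ = ⟨e 0 0 (a' * (crd g).2.1 + (crd g).1 * b'), e_mem _ _ _⟩ := by
        apply Subtype.ext
        show (g : L0) * e a' b' 0 * (g : L0)⁻¹ * (e a' b' 0)⁻¹ = _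
        rw [crd_spec g, e_comm]
      rw [h2, hF, crd_e] at h1
      simp only [hA0, hB0, one_mul] at h1
      exact hab (hZi _ h1)
    have h3 : Z (crd g).2.2 = 1 := by
      have := hF g
      rw [hg, key.1, key.2, hA0, hB0, one_mul, one_mul] at this
      exact this.symm
    have h4 := hZi _ h3
    apply crd_inj
    have h5 : crd (1 : S0) = (0, 0, 0) := by
      have : (1 : S0) = ⟨e 0 0 0, e_mem 0 0 0⟩ := Subtype.ext e_zero.symm
      rw [this, crd_e]
    rw [h5]
    exact Prod.ext key.1 (Prod.ext key.2 h4)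
  have hbij : Function.Bijective F :=
    (Nat.bijective_iff_injective_and_card F).2 ⟨hinj, by rw [card_S0, hT]⟩
  exact ⟨(MulEquiv.ofBijective F hbij).symm⟩

/-- In a 2-group with a fixed-point-free automorphism `α` of order three:
`⁅x, α y⁆ = ⁅α x, y⁆`. -/
theorem comm_swap {T : Type*} [Group T] [Finite T] {α : T →* T} (h : TwoFusion.FpfThree.Fpf3 α)
    (hQ : IsPGroup 2 T) (x y : T) : ⁅x, α y⁆ = ⁅α x, y⁆ := by
  have h1 := h.comm (x * y)
  have h2 : ⁅x * y, α x * α y⁆ = 1 := by
    rw [commutatorElement_eq_one_iff_mul_comm, ← map_mul]; exact h1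
  rw [OddCyclic.FpfThree.comm_mul_left h hQ, OddCyclic.FpfThree.comm_mul_right h hQ,
    OddCyclic.FpfThree.comm_mul_right h hQ,
    commutatorElement_eq_one_iff_mul_comm.mpr (h.comm x),
    commutatorElement_eq_one_iff_mul_comm.mpr (h.comm y), one_mul, mul_one] at h2
  rw [eq_inv_of_mul_eq_one_left h2, commutatorElement_inv]

/-- `α ⁅x, α y⁆ = ⁅x, y⁆`. -/
theorem map_comm_swap {T : Type*} [Group T] [Finite T] {α : T →* T}
    (h : TwoFusion.FpfThree.Fpf3 α) (hQ : IsPGroup 2 T) (x y : T) : α ⁅x, α y⁆ = ⁅x, y⁆ := by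
  apply h.injective
  set c := ⁅x, α y⁆ with hc
  have hcc : ∀ g, g * c = c * g := Subgroup.mem_center_iff.mp
    (OddCyclic.FpfThree.comm_mem_center h hQ x (α y))
  have h1 : α c = ⁅α x, α (α y)⁆ := by rw [hc, map_commutatorElement]
  have h2 : ⁅α x, y * α y⁆ = c * α ⁅x, y⁆ := by
    rw [OddCyclic.FpfThree.comm_mul_right h hQ, ← comm_swap h hQ, map_commutatorElement]
  have h3 : ⁅α x, α (α y)⁆ * ⁅α x, y * α y⁆ = 1 := by
    rw [← OddCyclic.FpfThree.comm_mul_right h hQ, h.map_map y, inv_mul_cancel,
      commutatorElement_one_right]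
  rw [← h1, h2] at h3
  -- α c * (c * α ⁅x,y⁆) = 1
  have h4 : α ⁅x, y⁆ = (α c * c)⁻¹ := by
    rw [← mul_assoc] at h3
    exact eq_inv_of_mul_eq_one_right h3
  rw [h4, hcc (α c), h.map_map c]

theorem comm_map_right {T : Type*} [Group T] [Finite T] {α : T →* T}
    (h : TwoFusion.FpfThree.Fpf3 α) (hQ : IsPGroup 2 T) (x y : T) :
    ⁅x, α y⁆ = α (α ⁅x, y⁆) := by
  rw [← map_comm_swap h hQ x y, h.cube]

theorem comm_map_left {T : Type*} [Group T] [Finite T] {α : T →* T}
    (h : TwoFusion.FpfThree.Fpf3 α) (hQ : IsPGroup 2 T) (x y : T) :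
    ⁅α x, y⁆ = α (α ⁅x, y⁆) := by
  rw [← comm_swap h hQ x y, comm_map_right h hQ]

/-- the homomorphism `(F4, +) → T` given by an involution `x` and `α` -/
def lin {T : Type*} [Group T] (α : T →* T) (x : T) : F4 → T
  | F4.z => 1
  | F4.o => x
  | F4.w => α x
  | F4.v => α (α x)

/-- the conjugate homomorphism -/
def linc {T : Type*} [Group T] (α : T →* T) (x : T) : F4 → T
  | F4.z => 1
  | F4.o => x
  | F4.w => α (α x)
  | F4.v => α x

theorem lin_add {T : Type*} [Group T] [Finite T] {α : T →* T}
    (h : TwoFusion.FpfThree.Fpf3 α) {x : T} (hx : x * x = 1) (s t : F4) :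
    lin α x (s + t) = lin α x s * lin α x t := by
  have hxi : x⁻¹ = x := inv_eq_of_mul_eq_one_right hx
  have h1 : α x * α x = 1 := by rw [← map_mul, hx, map_one]
  have h2 : α (α x) * α (α x) = 1 := by rw [← map_mul, h1, map_one]
  have h1i : (α x)⁻¹ = α x := inv_eq_of_mul_eq_one_right h1
  have h3 : α (α x) = α x * x := by rw [h.map_map x, mul_inv_rev, hxi, h1i]
  have h4 : α (α x) = x * α x := by rw [h3, h.comm]
  have h5 : x * α (α x) = α x := by rw [h4, ← mul_assoc, hx, one_mul]
  have h6 : α (α x) * x = α x := by rw [h3, mul_assoc, hx, mul_one]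
  have h7 : α x * α (α x) = x := by rw [h3, ← mul_assoc, h1, one_mul]
  have h8 : α (α x) * α x = x := by rw [h4, mul_assoc, h1, mul_one]
  cases s <;> cases t
  · show 1 = 1 * 1; rw [mul_one]
  · show x = 1 * x; rw [one_mul]
  · show α x = 1 * α x; rw [one_mul]
  · show α (α x) = 1 * α (α x); rw [one_mul]
  · show x = x * 1; rw [mul_one]
  · exact hx.symm
  · exact h4
  · exact h5.symm
  · show α x = α x * 1; rw [mul_one]
  · exact h3
  · exact h1.symm
  · exact h7.symm
  · show α (α x) = α (α x) * 1; rw [mul_one]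
  · exact h6.symm
  · exact h8.symm
  · exact h2.symm

theorem linc_eq {T : Type*} [Group T] (α : T →* T) (x : T) (s : F4) :
    linc α x s = lin α x (s * s) := by
  cases s <;> rfl

theorem linc_add {T : Type*} [Group T] [Finite T] {α : T →* T}
    (h : TwoFusion.FpfThree.Fpf3 α) {x : T} (hx : x * x = 1) (s t : F4) :
    linc α x (s + t) = linc α x s * linc α x t := by
  have h1 : ∀ s t : F4, (s + t) * (s + t) = s * s + t * t := by decide
  rw [linc_eq, linc_eq, linc_eq, h1, lin_add h hx]

/-- **Recognition.** A group of order 64 with a fixed-point-free automorphism of order three and two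
involutions which do not commute is isomorphic to a Sylow 2-subgroup of `PSL(3,4)`. -/
theorem exists_mulEquiv_of_fpf {T : Type*} [Group T] (hT : Nat.card T = 64) {α : T →* T}
    (h : TwoFusion.FpfThree.Fpf3 α) {a b : T} (ha : a * a = 1) (hb : b * b = 1)
    (hab : ⁅b, a⁆ ≠ 1) : Nonempty (T ≃* S0) := by
  have : Finite T := Nat.finite_of_card_ne_zero (by rw [hT]; norm_num)
  have hQ : IsPGroup 2 T := IsPGroup.of_card (n := 6) (by rw [hT]; norm_num)
  set z := ⁅b, a⁆ with hz
  have hcen : ∀ x y : T, ⁅x, y⁆ ∈ Subgroup.center T := OddCyclic.FpfThree.comm_mem_center h hQ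
  have hzz : z * z = 1 := by
    have h1 := OddCyclic.FpfThree.comm_mul_left h hQ b b a
    rw [hb, commutatorElement_one_left] at h1
    exact h1.symm
  have hzc : ∀ g, z * g = g * z := fun g => (Subgroup.mem_center_iff.mp (hcen b a) g).symm
  have hαz : ∀ g, α z * g = g * α z := fun g => by
    rw [hz, map_commutatorElement]
    exact (Subgroup.mem_center_iff.mp (hcen _ _) g).symm
  have hααz : ∀ g, α (α z) * g = g * α (α z) := fun g => by
    rw [hz, map_commutatorElement, map_commutatorElement]
    exact (Subgroup.mem_center_iff.mp (hcen _ _) g).symm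
  have c01 : ⁅b, α a⁆ = α (α z) := comm_map_right h hQ b a
  have c10 : ⁅α b, a⁆ = α (α z) := comm_map_left h hQ b a
  have c11 : ⁅α b, α a⁆ = α z := by rw [← map_commutatorElement]
  have c02 : ⁅b, α (α a)⁆ = α z := by
    rw [comm_map_right h hQ, c01, h.cube]
  have c20 : ⁅α (α b), a⁆ = α z := by
    rw [comm_map_left h hQ, c10, h.cube]
  have c12 : ⁅α b, α (α a)⁆ = z := by
    rw [← map_commutatorElement, c01, h.cube]
  have c21 : ⁅α (α b), α a⁆ = z := by
    rw [← map_commutatorElement, c10, h.cube]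
  have c22 : ⁅α (α b), α (α a)⁆ = α (α z) := by
    rw [← map_commutatorElement, ← map_commutatorElement]
  have key : ∀ (x y w : T), ⁅y, x⁆ = w → (∀ g, w * g = g * w) → y * x = x * y * w := by
    intro x y w h1 h2
    rw [← h2, ← h1, commutatorElement_def]; group
  refine exists_mulEquiv_S0 hT (lin α a) (lin α b) (linc α z) (lin_add h ha) (lin_add h hb)
    (linc_add h hzz) ?_ ?_ ?_
  · intro s g
    cases s
    · show 1 * g = g * 1; rw [one_mul, mul_one]
    · exact hzc g
    · exact hααz g
    · exact hαz g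
  · intro s t
    cases s <;> cases t
    · show 1 * 1 = 1 * 1 * 1; simp
    · show b * 1 = 1 * b * 1; simp
    · show α b * 1 = 1 * α b * 1; simp
    · show α (α b) * 1 = 1 * α (α b) * 1; simp
    · show 1 * a = a * 1 * 1; simp
    · exact key _ _ _ rfl hzc
    · exact key _ _ _ c10 hααz
    · exact key _ _ _ c20 hαz
    · show 1 * α a = α a * 1 * 1; simp
    · exact key _ _ _ c01 hααz
    · exact key _ _ _ c11 hαz
    · exact key _ _ _ c21 hzc
    · show 1 * α (α a) = α (α a) * 1 * 1; simp
    · exact key _ _ _ c02 hαz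
    · exact key _ _ _ c12 hzc
    · exact key _ _ _ c22 hααz
  · intro s hs
    cases s
    · rfl
    · exact absurd hs hab
    · exact absurd (h.map_eq_one (h.map_eq_one hs)) hab
    · exact absurd (h.map_eq_one hs) hab

end Cfsg.Agent.H299.UTRecog
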